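import Cfsg.Agent.TH.Tri
import Cfsg.Agent.H889.Enum.Glue
import Cfsg.Agent.H977.T5SporA
import Cfsg.Agent.H149.Sp.Base

/-!
# S3541: the simple subgroups in cross characteristic of a linear group of degree at most `248` (helper53)
-/

set_option autoImplicit false

namespace Cfsg.Agent.TH.Ex1

open Cfsg Subgroup Cfsg.Agent.OrdDiv Cfsg.Agent.H290.ElReg Cfsg.Agent.H290.ElTab Cfsg.Agent.H252.EN
  Cfsg.Agent.H889.Enum

/-- the order of the group and of its automorphism group -/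
theorem enum (hK : AllK) {n p : ℕ} [Fact p.Prime] (hn : n ≤ 248) {F : Type} [Field F] [CharP F p] {N : Type} [Group N]
    [Finite N] [IsSimpleGroup N] (hc : ¬ IsMulCommutative N) (hf : Fth n F N) (hL : ¬ IsLieTypeChar p N) :
    (∃ c, 5 ≤ c ∧ Nonempty (N ≃* alternatingGroup (Fin c)) ∧ 2 * Nat.card N = c.factorial ∧
      Nat.card (MulAut N) = autA c) ∨
    (∃ x ∈ spor, OrdDiv.Real x.1 N ∧ Nat.card N = x.2 ∧ Nat.card (MulAut N) ∣ 2 * x.2) ∨
    ∃ x ∈ reg n, x.2.1 ≠ p ∧ (∃ g, H902.Names.IsLie g x.1 x.2.1 x.2.2 ∧ OrdDiv.Real g N) ∧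
      Nat.card N = od x.1 x.2.1 x.2.2 ∧ Nat.card (MulAut N) = ouN x.1 x.2.1 x.2.2 * od x.1 x.2.1 x.2.2 := by
  have hna : ¬ ∀ a b : N, a * b = b * a := fun h => hc ⟨⟨h⟩⟩
  have key : IsSporadicGroup N ∨ Lie.IsoTits N → Nat.card (Out N) ∣ 2 →
      ∃ x ∈ spor, OrdDiv.Real x.1 N ∧ Nat.card N = x.2 ∧ Nat.card (MulAut N) ∣ 2 * x.2 := fun h h2 => by
    obtain ⟨x, hx, hr⟩ := H977.T5Spor.exists_real h
    have h3 := table.spor N x hx hr
    exact ⟨x, hx, hr, h3, by rw [← H934.OutB.card_out_mul N hc, h3]; exact Nat.mul_dvd_mul_right h2 _⟩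
  rcases cross_lie table hn hna (hK N) hf hL with ⟨c, h5, he⟩ | h | h | ⟨g, X, l, a, hg, hT, hA, hr, hl⟩
  · refine Or.inl ⟨c, h5, he, ?_, aut_alt hna h5 he⟩
    obtain ⟨e⟩ := he
    rw [Nat.card_congr e.toEquiv]
    exact card_alt (by omega)
  · exact Or.inr (Or.inl (key (Or.inr h) (out_tits h)))
  · exact Or.inr (Or.inl (key (Or.inl h) (H149.Sp.card_out_dvd_two h)))
  · exact Or.inr (Or.inr ⟨_, hr, hl, ⟨g, hg, hT⟩, real_eq hA, by rw [aut_ouN hna hg hT hA, real_eq hA]⟩)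

/-- `H ⊓ T` acts faithfully on `N` -/
theorem card_dvd_aut {G : Type*} [Group G] [Finite G] {T H N : Subgroup G} (hS : Sim T H N) :
    Nat.card ↥(H ⊓ T) ∣ Nat.card (MulAut N) := by
  have h1 : H ⊓ T ≤ normalizer (N : Set G) := le_normalizer_of_conj fun a ha => hS.nrm a ha.1
  refine card_dvd_of_injective (N.normalizerMonoidHom.comp (inclusion h1)) ?_
  rw [injective_iff_map_eq_one]
  intro a ha
  refine Subtype.ext (hS.cent a a.2.2 fun x hx => ?_)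
  exact mul_inv_eq_iff_eq_mul.1 (congrArg Subtype.val (MulEquiv.congr_fun ha ⟨x, hx⟩))

end Cfsg.Agent.TH.Ex1
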