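import Cfsg.Agent.TH.Uni
import Cfsg.Agent.H392.TwFFour.Card
import Cfsg.Agent.S1072
import Cfsg.Agent.SB.TwF.Main
import Cfsg.Agent.BHZ.Exc.TF4
import Cfsg.Agent.H240.BalTwF.ThreeC
import Cfsg.Agent.H772.TF.Plus
import Cfsg.Agent.H565.TwF4Rank
import Cfsg.Agent.Cam.F42.Swap
import Cfsg.Agent.H371.EPF.Crossk
import Cfsg.Agent.H496.TwEight.Card
import Cfsg.Agent.H67.RG.TwFCent

/-!
# S3541, the large Ree groups: the local facts (helper53)
-/

set_option autoImplicit false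
set_option linter.unusedSectionVars false

namespace Cfsg.Agent.TH.Ex1

open Cfsg Subgroup

/-- a quotient of a subgroup of `W` -/
theorem index_dvd_of_rel {W N : Type*} [Group W] [Group N] (Γ : Subgroup (W × N)) (C : Subgroup N)
    (hs : ∀ n, ∃ w, (w, n) ∈ Γ) (hk : ∀ n, (1, n) ∈ Γ → n ∈ C) : C.index ∣ Nat.card W := by
  let π₁ : Γ →* W := (MonoidHom.fst W N).comp Γ.subtype
  let π₂ : Γ →* N := (MonoidHom.snd W N).comp Γ.subtype
  have h1 : Function.Surjective π₂ := fun n => by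
    obtain ⟨w, hw⟩ := hs n
    exact ⟨⟨_, hw⟩, rfl⟩
  have h2 : π₁.ker ≤ C.comap π₂ := by
    rintro ⟨⟨w, n⟩, h⟩ h3
    obtain rfl : w = 1 := h3
    exact hk n h
  rw [← index_comap_of_surjective C h1]
  refine (index_dvd_of_le h2).trans ?_
  rw [index_ker]
  exact card_subgroup_dvd_card _

section Weyl

open CoxeterSystem Cfsg.Lie Cfsg.Lie.ChevalleyDatum
open Cfsg.Agent.ChevalleyStructure Cfsg.Agent.ChevalleyStructure.CoxeterGeom
open Cfsg.Agent.Tits.Roots Cfsg.Agent.Tits.Core Cfsg.Agent.Nodes.Reps Cfsg.Agent.Nodes.BNOf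
  Cfsg.Agent.Nodes.RGDChev
open Cfsg.Agent.KFacts.RgdField Cfsg.Agent.KFacts.RgdChevCoord Cfsg.Agent.BpExc.TorCent Cfsg.Agent.BpExc.TorChev
open Cfsg.Agent.BpExc Cfsg.Agent.H129.TorusChar Cfsg.Agent.H129.TorusUntw
open Cfsg.Agent.H493.F4End Cfsg.Agent.H493.F4Tor
open Cfsg.Agent.H759.TwF Cfsg.Agent.SB.TwF

/-- **the action on a normal nilpotent subgroup of order prime to `6` comes from the Weyl group** -/
theorem weyl_model {K : Type} [Field K] [Fintype K] {m : ℕ} (hK : Fintype.card K = 2 ^ (2 * m + 1))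
    {N : Type*} [Group N] [Finite N] (ι : N →* ↥(twistedF4 K (2 ^ m))) (hι : Function.Injective ι) (B : Subgroup N)
    [B.Normal] [Group.IsNilpotent B] (hc : (Nat.card B).Coprime 6) :
    (∀ a ∈ B, ∀ b ∈ B, a * b = b * a) ∧ (centralizer (B : Set N)).index ∣ 1152 := by
  have : Fact (Nat.Prime 2) := ⟨Nat.prime_two⟩
  have hc2 : CharP K 2 := F4Fixed.charP_two hK
  obtain ⟨p, e, hpF, hpc, hpk, he, hpe, hk⟩ := exists_closure hK
  have hp2 : p = 2 := CharP.eq K hpc hc2
  subst hp2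
  let f := algebraMap K (AlgebraicClosure K)
  obtain ⟨B', hB', g, hg⟩ := BHZ.Exc.TF.exists_tor_three hK f hk (ι.comp B.subtype) fun h => by
    have := Nat.Coprime.coprime_dvd_left h hc
    norm_num at this
  obtain rfl : B' = ⊤ := index_eq_one.1 (Nat.eq_one_of_dvd_coprimes hc B'.index_dvd_card (hB'.trans (by norm_num)))
  let cs := CoxeterMatrix.F₄.toCoxeterSystem
  have hW : Finite CoxeterMatrix.F₄.Group := H493.PGF4.finW
  have hcW : Nat.card CoxeterMatrix.F₄.Group = 1152 := S1092.result (⟨4, CoxeterMatrix.F₄⟩, 1152) (by simp)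
  let t : N →* ↥(chevF4.group (AlgebraicClosure K)) := (MulAut.conj g⁻¹).toMonoidHom.comp ((eF m f).comp ι)
  have ht : ∀ x, t x = g⁻¹ * eF m f (ι x) * g := fun x => by
    change g⁻¹ * eF m f (ι x) * g⁻¹⁻¹ = _
    rw [inv_inv]
  have htB : ∀ x ∈ B, t x ∈ TT chevF4 (AlgebraicClosure K) := fun x hx => by
    rw [ht]
    exact hg ⟨x, hx⟩ (mem_top _)
  have hinj : Function.Injective t := (MulAut.conj g⁻¹).injective.comp ((eF_injective f).comp hι)
  have hn : ∀ x ∈ B, ∀ c : N, c * x * c⁻¹ ∈ B := fun x hx c => Subgroup.Normal.conj_mem inferInstance x hx c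
  refine ⟨fun a ha b hb => hinj (by
    rw [map_mul, map_mul]
    exact H720.TorusReal.TT_comm hp (htB a ha) (htB b hb)), ?_⟩
  let Γ : Subgroup (CoxeterMatrix.F₄.Group × N) :=
    { carrier := {x | ∀ b ∈ B, ∀ v, cX hp (t (x.2 * b * x.2⁻¹)) (rep cs hp.isCartan x.1 v) = cX hp (t b) v}
      one_mem' := fun b _ v => by simp
      mul_mem' := fun {x y} hx hy b hb v => by
        rw [← hy b hb v, ← hx _ (hn b hb y.2), ← rep_mul_apply]
        congr 2
        simp only [Prod.snd_mul]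
        group
      inv_mem' := fun {x} hx b hb v => by
        rw [← hx _ (hn b hb x⁻¹.2), ← rep_mul_apply]
        simp [mul_assoc] }
  rw [← hcW]
  refine index_dvd_of_rel Γ _ (fun d => ?_) fun d hd => mem_centralizer_iff.2 fun b hb => ?_
  · obtain ⟨w, n, hw, hwn⟩ := exists_form_fam hp cs hk 2 (s := fun x : B => t x) (t := fun x : B => t (d * x * d⁻¹))
      (fun x => htB _ x.2) (fun x => htB _ (hn _ x.2 d)) (c := t d) fun x => by
        rw [← map_mul, ← map_mul, inv_mul_cancel_right]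
    exact ⟨w, fun x hx v => by
      rw [← cX_rp hp cs hk 2 hw (htB x hx) v, mul_inv_eq_iff_eq_mul.2 (hwn ⟨x, hx⟩)]⟩
  · refine (mul_inv_eq_iff_eq_mul.1 (hinj (cX_inj hp (htB _ (hn b hb d)) (htB b hb) fun a => ?_))).symm
    simpa using hd b hb (sr a)

end Weyl

section Three

open Cfsg.Agent.KFacts.TwF4 Cfsg.Agent.H772.TF Cfsg.Agent.SplitTwo.ZS Cfsg.Agent.TitsThree.RankTwoZ

variable {F : Type*} [Field F] {σ : F →+* F} {G : Type} [Group G] (S : Full σ G) [Finite F] [Finite G]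

/-- a `3`-central element of order `3` is conjugate to `e3` -/
theorem conj_e3 (hF : ∃ d : Fˣ, d ≠ 1) (hR : S.R.p = 2) (hq : Nat.card F % 3 = 2)
    (hcard : (Nat.card G).factorization 3 ≤ 2 * (Nat.card F + 1).factorization 3 + 1)
    (hxyz : ∃ x y z : G, x ^ 3 = 1 ∧ y ^ 3 = 1 ∧ z * x = x * z ∧ z * y = y * z ∧ x * y = z * (y * x) ∧ z ≠ 1)
    (hna : ∀ P : Sylow 3 G, ¬ IsMulCommutative (P : Subgroup G)) {a : G} (ha : orderOf a = 3)
    (hi : ¬ 3 ∣ (centralizer {a}).index) : ∃ g, g * a * g⁻¹ = e3 S := by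
  have h3 : Fact (Nat.Prime 3) := ⟨Nat.prime_three⟩
  obtain ⟨x, y, z, hx, hy, hzx, hzy, hxy, hz⟩ := hxyz
  obtain ⟨w, m, hw3, hw, hm⟩ := exists_w S hF hR hq hcard hx hy hzx hzy hxy hz
  obtain ⟨T, hTp, hTc, he, heb, hTE, hTcard⟩ := exists_T3 S hF hR hq
  obtain ⟨P, hP⟩ := hTp.exists_le_sylow
  obtain ⟨Q, hQa, hQ⟩ := exists_sylow_le_of_not_dvd_index hi (Y := zpowers a)
    (IsPGroup.of_card (n := 1) (by rw [Nat.card_zpowers, ha, pow_one]))
    (zpowers_le.2 (mem_centralizer_singleton_iff.2 rfl))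
  obtain ⟨k, hk⟩ := MulAction.exists_smul_eq G Q P
  have hmem : k * a * k⁻¹ ∈ (P : Subgroup G) := by
    rw [← hk, Sylow.coe_subgroup_smul]
    exact Subgroup.smul_mem_pointwise_smul a (MulAut.conj k) (Q : Subgroup G) (hQa (mem_zpowers a))
  have hcen : ∀ v ∈ (P : Subgroup G), v * (k * a * k⁻¹) = k * a * k⁻¹ * v := by
    intro v hv
    rw [← hk, Sylow.coe_subgroup_smul] at hv
    obtain ⟨u, hu, rfl⟩ := hv
    have h1 : u * a = a * u := mem_centralizer_singleton_iff.1 (hQ hu)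
    change k * u * k⁻¹ * (k * a * k⁻¹) = k * a * k⁻¹ * (k * u * k⁻¹)
    calc _ = k * (u * a) * k⁻¹ := by group
      _ = _ := by rw [h1]; group
  have hcardP : Nat.card (P : Subgroup G) ≤ 3 * Nat.card T := by
    rw [P.card_eq_multiplicity]
    calc 3 ^ (Nat.card G).factorization 3 ≤ 3 ^ (2 * (Nat.card F + 1).factorization 3 + 1) :=
          Nat.pow_le_pow_right (by norm_num) hcard
      _ = 3 * 3 ^ (2 * (Nat.card F + 1).factorization 3) := by rw [pow_succ, mul_comm]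
      _ ≤ _ := Nat.mul_le_mul_left 3 hTcard
  have haT : k * a * k⁻¹ ∈ T := by
    by_contra hcon
    refine hna P ⟨⟨fun u v => Subtype.ext ?_⟩⟩
    have h1 : T < T ⊔ zpowers (k * a * k⁻¹) := lt_of_le_of_ne le_sup_left fun h => hcon (by
      rw [h]
      exact mem_sup_right (mem_zpowers _))
    have h2 : T ⊔ zpowers (k * a * k⁻¹) ≤ P := sup_le hP (zpowers_le.2 hmem)
    obtain ⟨i, hi⟩ := IsPGroup.iff_card.1 hTp
    obtain ⟨j, hj⟩ := IsPGroup.iff_card.1 (P.isPGroup'.to_le h2)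
    have h4 : Nat.card T < Nat.card ↥(T ⊔ zpowers (k * a * k⁻¹)) := lt_of_le_of_ne (card_le_of_le h1.le) fun h =>
      h1.ne (eq_of_le_of_card_ge h1.le h.ge)
    rw [hi, hj, Nat.pow_lt_pow_iff_right (by norm_num)] at h4
    have h5 : T ⊔ zpowers (k * a * k⁻¹) = P := eq_of_le_of_card_ge h2 (by
      rw [hj]
      refine hcardP.trans ?_
      rw [hi, ← pow_succ']
      exact Nat.pow_le_pow_right (by norm_num) h4)
    have h6 : ∀ t ∈ T, (P : Subgroup G) ≤ centralizer {t} := fun t ht => by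
      rw [← h5]
      exact sup_le (fun s hs => mem_centralizer_singleton_iff.2 (hTc s hs t ht))
        (zpowers_le.2 (mem_centralizer_singleton_iff.2 (hcen t (hP ht)).symm))
    have h7 : (P : Subgroup G) ≤ centralizer {(v : G)} := h5.ge.trans <|
      sup_le (fun s hs => mem_centralizer_singleton_iff.2 (mem_centralizer_singleton_iff.1 (h6 s hs v.2)).symm)
        (zpowers_le.2 (mem_centralizer_singleton_iff.2 (hcen v v.2).symm))
    exact mem_centralizer_singleton_iff.1 (h7 u.2)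
  have ha3 : a ^ 3 = 1 := ha ▸ pow_orderOf_eq_one a
  obtain ⟨i, j, hij⟩ := hTE _ haT (by rw [← pow_three', conj_pow, ha3, mul_one, mul_inv_cancel])
  obtain ⟨l, hl⟩ := H240.BalTwF.gd_all S hw3 hw hm i j (by
    rintro ⟨rfl, rfl⟩
    rw [E_zero, conj_eq_one_iff] at hij
    rw [hij, orderOf_one] at ha
    omega)
  exact ⟨l * k, by rw [← hl, ← hij]; group⟩

theorem e3b_not_mem : e3b S ∉ zpowers (e3 S) := by
  intro h
  obtain ⟨n, hn⟩ := (Submonoid.mem_powers_iff _ _).1 (mem_powers_iff_mem_zpowers.2 h)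
  rw [← E_one_zero, E_npow, ← E_zero_one] at hn
  simpa using (E_inj S hn).2

theorem dvd_cent_e3 : Nat.card F ∣ Nat.card (centralizer {e3 S}) := by
  rw [← H392.TwFFour.card_odd S 2]
  exact card_dvd_of_le fun x hx => mem_centralizer_singleton_iff.2 (comm_M5 S (e3_mem S) (mem_sup_left hx)).symm

end Three

/-- the local facts on `²F₄(q)` -/
structure Fc (K : Type) [Group K] (q : ℕ) : Prop where
  q8 : 8 ≤ q
  rk : PRankLE 3 2 K
  pair : ∀ E : Subgroup K, IsElementaryAbelian 3 E → Nat.card E = 3 ^ 2 → ∀ t : K, t * t = 1 →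
    (∀ e ∈ E, e * t = t * e) → t = 1
  three : ∀ z : K, orderOf z = 3 → ¬ 3 ∣ (centralizer {z}).index → 8 ∣ Nat.card (centralizer {z}) ∧
    ∃ g : K, g * z * g⁻¹ * z = z * (g * z * g⁻¹) ∧ g * z * g⁻¹ ∉ zpowers z
  nil : ∀ (N : Type) [Group N] (ι : N →* K), Function.Injective ι → Group.IsNilpotent N → ¬ 2 ∣ Nat.card N →
    Nat.card N ≤ 12 * q ^ 2
  weyl : ∀ (N : Type) [Group N] (ι : N →* K), Function.Injective ι → ∀ B : Subgroup N, B.Normal →
    Group.IsNilpotent B → (Nat.card B).Coprime 6 →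
    (∀ a ∈ B, ∀ b ∈ B, a * b = b * a) ∧ (centralizer (B : Set N)).index ∣ 1152
  swap : ∀ (x : K) (r : ℕ), r.Prime → 5 ≤ r → x ^ r = 1 → x ≠ 1 → ∃ n, ∀ P : Subgroup K, ⁅P, P⁆ = P →
    P ≤ centralizer {x} → ∀ a ∈ P, ∀ b ∈ P, n * a * n⁻¹ * b = b * (n * a * n⁻¹)
  cent : ∀ (L : Type) [Group L] (ι : L →* K), Function.Injective ι → IsSimpleGroup L → ¬ IsMulCommutative L →
    ∀ t : K, t * t = 1 → t ≠ 1 → (∀ a, ι a * t = t * ι a) → IsLieTypeChar 2 L
  inv : ∀ u : K, orderOf u = 2 → Nat.card (centralizer {u}) ≤ q ^ 15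
  odd : ∀ α : MulAut K, (orderOf α).Prime → orderOf α ≠ 2 → Nat.card (SB.R1.fixS α) ≤ q ^ 9

theorem card_cent_equiv {K M : Type*} [Group K] [Group M] (e : K ≃* M) (u : K) :
    Nat.card (centralizer {e u}) = Nat.card (centralizer {u}) := by
  rw [← card_map_of_injective (f := e.toMonoidHom) e.injective]
  congr 2
  ext x
  obtain ⟨y, rfl⟩ := e.surjective x
  rw [mem_map_equiv, e.symm_apply_apply, mem_centralizer_singleton_iff, mem_centralizer_singleton_iff, ← map_mul,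
    ← map_mul, e.apply_eq_iff_eq]

theorem Fc.of_equiv {K M : Type} [Group K] [Group M] [Finite K] {q : ℕ} (e : K ≃* M) (h : Fc M q) : Fc K q where
  q8 := h.q8
  rk A hA h3 := by
    rw [← card_map_of_injective (f := e.toMonoidHom) e.injective]
    refine h.rk _ inferInstance ?_
    rintro _ ⟨a, ha, rfl⟩
    rw [← map_pow, h3 a ha, map_one]
  pair E hE hc t ht hte := by
    have := hE.1
    refine e.map_eq_one_iff.1 (h.pair (E.map e.toMonoidHom) ⟨inferInstance, ?_⟩
      (by rw [card_map_of_injective e.injective, hc]) _ (by rw [← map_mul, ht, map_one]) ?_)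
    · rintro _ ⟨a, ha, rfl⟩
      rw [← map_pow, hE.2 a ha, map_one]
    · rintro _ ⟨a, ha, rfl⟩
      exact (map_mul e a t).symm.trans ((congrArg e (hte a ha)).trans (map_mul e t a))
  three z hz hi := by
    obtain ⟨h1, g, h2, h3⟩ := h.three (e z) (by rw [e.orderOf_eq, hz]) (by
      have h1 := (centralizer {z}).card_mul_index
      rw [Nat.card_congr e.toEquiv, ← (centralizer {e z}).card_mul_index, card_cent_equiv] at h1
      rwa [← Nat.eq_of_mul_eq_mul_left Nat.card_pos h1])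
    obtain ⟨g, rfl⟩ := e.surjective g
    refine ⟨card_cent_equiv e z ▸ h1, g, e.injective (by simpa only [map_mul, map_inv] using h2), ?_⟩
    rintro ⟨n, hn⟩
    exact h3 ⟨n, by simpa only [map_mul, map_inv, map_zpow] using congrArg e hn⟩
  nil N _ ι hι := h.nil N (e.toMonoidHom.comp ι) (e.injective.comp hι)
  weyl N _ ι hι := h.weyl N (e.toMonoidHom.comp ι) (e.injective.comp hι)
  swap x r hr h5 hx h1 := by
    obtain ⟨n, hn⟩ := h.swap (e x) r hr h5 (by rw [← map_pow, hx, map_one]) fun h2 => h1 (e.map_eq_one_iff.1 h2)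
    obtain ⟨n, rfl⟩ := e.surjective n
    refine ⟨n, fun P hP hC a ha b hb => e.injective ?_⟩
    simp only [map_mul, map_inv]
    exact hn (P.map e.toMonoidHom) (by rw [← map_commutator, hP]) (by
      rintro _ ⟨c, hc, rfl⟩
      exact mem_centralizer_singleton_iff.2 ((map_mul e c x).symm.trans
        ((congrArg e (mem_centralizer_singleton_iff.1 (hC hc))).trans (map_mul e x c)))) _ ⟨a, ha, rfl⟩ _ ⟨b, hb, rfl⟩
  cent L _ ι hι hs hc t ht h1 h2 := h.cent L (e.toMonoidHom.comp ι) (e.injective.comp hι) hs hc (e t)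
    (by rw [← map_mul, ht, map_one]) (fun h3 => h1 (e.map_eq_one_iff.1 h3)) fun a =>
      (map_mul e _ t).symm.trans ((congrArg e (h2 a)).trans (map_mul e t _))
  inv u hu := card_cent_equiv e u ▸ h.inv (e u) (by rw [e.orderOf_eq, hu])
  odd α h1 h2 := by
    have h3 := h.odd (MulAut.congr e α) (by rwa [MulEquiv.orderOf_eq]) (by rwa [MulEquiv.orderOf_eq])
    have := Finite.of_equiv K e.toEquiv
    exact le_trans (Nat.card_le_card_of_injective (fun x => (⟨e x, SB.R1.mem_fixS.2 (by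
      simpa using SB.R1.mem_fixS.1 x.2)⟩ : SB.R1.fixS (MulAut.congr e α)))
      fun a b h4 => Subtype.ext (e.injective (congrArg Subtype.val h4))) h3

theorem conj_inj {K : Type*} [Group K] (hs : IsSimpleGroup K) (hc : ¬ IsMulCommutative K) :
    Function.Injective (MulAut.conj : K →* MulAut K) := by
  rcases hs.eq_bot_or_eq_top_of_normal (MulAut.conj : K →* MulAut K).ker inferInstance with h | h
  · exact (MonoidHom.ker_eq_bot_iff _).1 h
  · exact absurd ⟨⟨fun a b => mul_inv_eq_iff_eq_mul.1 (DFunLike.congr_fun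
      (show MulAut.conj a = 1 from (h.ge (mem_top a) :)) b)⟩⟩ hc

theorem fc_model {K : Type} [Field K] [Fintype K] {m : ℕ} (hm : 1 ≤ m) (hK : Fintype.card K = 2 ^ (2 * m + 1)) :
    Fc ↥(Lie.twistedF4 K (2 ^ m)) (2 ^ (2 * m + 1)) := by
  have hch := ChevalleyStructure.TwF4.Twisted.charP_two hK
  have hfin := H42.Tw.finite_tw (K := K) (2 ^ m)
  have hF := H42.Tw.exists_unit hm hK
  obtain ⟨φ, hφ⟩ := ChevalleyStructure.TwF4.TwistedFix.exists_rln hK
  have hcK : Nat.card K = 2 ^ (2 * m + 1) := by rw [Nat.card_eq_fintype_card, hK]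
  have h8 : 2 ^ 3 ∣ 2 ^ (2 * m + 1) := pow_dvd_pow 2 (by omega)
  have h9 : 8 ≤ 2 ^ (2 * m + 1) := Nat.le_of_dvd (by positivity) h8
  have hq : Nat.card K % 3 = 2 := by
    rw [hcK, pow_succ, pow_mul, Nat.mul_mod, Nat.pow_mod]
    norm_num
  refine ⟨h9, H565.F4R.prankLE_three_twF4 hK, fun E hE hc t ht hte => ?_, fun z hz hi => ?_,
    fun N _ ι hι hN h2 => ?_, fun N _ ι hι B _ _ hc => ?_, fun x r hr h5 hx h1 => Cam.F42.swap hK hr h5 hx h1,
    fun L _ ι hι hs hc t ht h1 h2 => ?_, fun u hu => ?_, fun α h1 h2 => ?_⟩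
  · by_contra h1
    exact PreUniq.LowExc.TwF4.not_pair_twistedF4 hm hK Nat.prime_three (by norm_num) (by omega) hE hc ht h1 hte
  · obtain ⟨g, hg⟩ := conj_e3 (KFacts.TwF4.Inst.full hK hφ) hF rfl hq (by
      rw [show Nat.card ↥(Lie.twistedF4 K (2 ^ m)) = H42.Tw.ord (Nat.card K) by rw [hcK]; exact S1068.result hK]
      exact H772.TF.fact_ord hq (by omega)) (H772.TF.exists_xyz K (e := 2 ^ m) (by positivity))
      (H42.Tw.not_abelian_three K (by positivity)) hz hi
    have h1 := dvd_cent_e3 (KFacts.TwF4.Inst.full hK hφ)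
    have h2 := e3b_not_mem (KFacts.TwF4.Inst.full hK hφ)
    have h3 := (H772.TF.e3_comm (KFacts.TwF4.Inst.full hK hφ)).eq
    obtain ⟨r, hr⟩ : ∃ r, H772.TF.e3b (KFacts.TwF4.Inst.full hK hφ) =
      r * H772.TF.e3 (KFacts.TwF4.Inst.full hK hφ) * r⁻¹ := ⟨_, rfl⟩
    rw [hr] at h2 h3
    rw [← hg] at h1 h2 h3
    refine ⟨?_, g⁻¹ * r * g, ?_, ?_⟩
    · rw [← card_cent_equiv (MulAut.conj g)]
      exact h8.trans (hcK ▸ h1)
    · refine (MulAut.conj g).injective ?_
      simp only [map_mul, MulAut.conj_apply]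
      convert h3.symm using 1 <;> group
    · rintro ⟨n, hn⟩
      refine h2 ⟨n, ?_⟩
      simp only [conj_zpow] at hn ⊢
      rw [hn]
      group
  · have := Finite.of_injective ι hι
    exact SB.TwF.card_nil_le hm hK ι hι h2
  · have := Finite.of_injective ι hι
    exact weyl_model hK ι hι B hc
  · have := Finite.of_injective ι hι
    refine H371.EPF.of_cent hm hK ?_ ι hι (Q := zpowers t) (Gen.isPGroup_zpowers (k := 1) (by rw [pow_one, sq, ht]))
      (fun h => h1 (zpowers_eq_bot.1 h)) fun a => centralizer_le_normalizer _ (mem_centralizer_iff.2 ?_)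
    · by_contra h
      push Not at h
      exact hc ⟨⟨h⟩⟩
    · rintro _ ⟨n, rfl⟩
      exact ((show Commute (ι a) t from h2 a).zpow_right n).eq.symm
  · have h1 : ∀ q : ℕ, q ^ 12 * (q - 1) * (q * q + 1) ≤ q ^ 15 ∧ q ^ 10 * (q - 1) * (q + 1) ≤ q ^ 15 := by
      intro q
      rcases q with _ | q
      · simp
      rw [Nat.add_sub_cancel, show (q + 1) ^ 15 = (q + 1) ^ 12 * (q + 1) ^ 3 by ring, mul_assoc, mul_assoc]
      refine ⟨Nat.mul_le_mul_left _ (by nlinarith), ?_⟩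
      rw [show (q + 1) ^ 12 * (q + 1) ^ 3 = (q + 1) ^ 10 * ((q + 1) ^ 2 * (q + 1) ^ 3) by ring]
      exact Nat.mul_le_mul_left _ (le_trans (by nlinarith) (Nat.le_mul_of_pos_right _ (by positivity)))
    rw [← hcK]
    rcases H496.TwEight.Card.inv_cases (KFacts.TwF4.Inst.full hK hφ) hF rfl hu with ⟨g, -, -, -, h⟩ | ⟨g, -, -, -, h⟩
    · rw [h, H496.TwEight.Card.card_map_conj, H496.TwEight.Card.card_PL' _ hF]
      exact (h1 _).1
    · rw [h, H496.TwEight.Card.card_map_conj, H496.TwEight.Card.card_HO' _ hF]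
      exact (h1 _).2
  · by_cases h3 : ∃ g, α = MulAut.conj g
    · obtain ⟨g, rfl⟩ := h3
      obtain ⟨h4, h5⟩ := S1072.result hm hK
      rw [orderOf_injective MulAut.conj (conj_inj h4 h5)] at h1 h2
      rw [show SB.R1.fixS (MulAut.conj g) = centralizer {g} from Subgroup.ext fun x => by
        rw [SB.R1.mem_fixS, MulAut.conj_apply, mem_centralizer_singleton_iff, mul_inv_eq_iff_eq_mul, eq_comm]]
      exact (H67.RG.card_cent_le hm hK h1 h2 rfl).trans (hcK ▸ Nat.pow_le_pow_right (by omega) (by norm_num))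
    · exact SB.TwF.card_fix_outer hm hK h1 h3

end Cfsg.Agent.TH.Ex1
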