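import Cfsg.Agent.TH.Ex1.TFa
import Cfsg.Agent.TH.Cl.Cases.Sim
import Cfsg.Agent.Lib.GenFitting
import Cfsg.Agent.SignalizersComponents.FStarNormal
import Cfsg.Agent.SmallSimple.BurnsideNC
import Cfsg.Agent.CpAut.RankOne
import Cfsg.Agent.CpQuot.Congr
import Cfsg.Agent.H582.Act
import Cfsg.Agent.S2910
import Cfsg.Agent.S0205

/-!
# S3541, the large Ree groups: the local case (helper53)
-/

set_option autoImplicit false
set_option linter.unusedSectionVars false

namespace Cfsg.Agent.TH.Ex1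

open Cfsg Subgroup Cfsg.Agent.Lib.Cores Cfsg.Agent.SignalizersComponents

theorem hasOwn_hom {K G : Type*} [Group K] [Group G] {X : Subgroup K} {H : Subgroup G} {p : ℕ} (f : X →* H)
    (hf : Function.Injective f) (hn : f.range.Normal) (h : HasOwn p X) : HasOwn p H := by
  obtain ⟨E, ⟨h1, h2⟩, h3⟩ := h
  refine ⟨E.map f, ⟨?_, (CpQuot.Congr.isQuasisimple_iff (E.equivMapOfInjective f hf)).1 h2⟩,
    (CpQuot.Congr.isLieTypeChar_iff (CpQuot.Congr.cq (E.equivMapOfInjective f hf)) p).1 h3⟩
  have h4 := (h1.map f.rangeRestrict_surjective).trans' hn.isSubnormal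
  rwa [map_map, MonoidHom.subtype_comp_rangeRestrict] at h4

theorem cent_fit_le {G : Type*} [Group G] [Finite G] (hl : layer G = ⊥) :
    centralizer (fittingSubgroup G : Set G) ≤ fittingSubgroup G := by
  have h := Lib.GenFitting.centralizer_genFitting_le (G := G)
  rwa [Lib.GenFitting.genFitting_def, hl, bot_sup_eq] at h

theorem two_dvd {G : Type*} [Group G] [Finite G] (h : ¬ Group.IsSolvable G) : 2 ∣ Nat.card G := by
  by_contra h2
  exact h (S0205.result (Nat.odd_iff.2 (by omega)))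

theorem exists_inv {G : Type*} [Group G] [Finite G] (h : 2 ∣ Nat.card G) : ∃ t : G, t * t = 1 ∧ t ≠ 1 := by
  have : Fact (Nat.Prime 2) := ⟨Nat.prime_two⟩
  obtain ⟨t, ht⟩ := exists_prime_orderOf_dvd_card' 2 h
  exact ⟨t, by rw [← sq, ← ht, pow_orderOf_eq_one], fun h1 => by rw [h1, orderOf_one] at ht; omega⟩

theorem cop_six {n : ℕ} : n.Coprime 6 ↔ ¬ 2 ∣ n ∧ ¬ 3 ∣ n := by
  rw [show 6 = 2 * 3 from rfl, Nat.coprime_mul_iff_right, Nat.coprime_comm, Nat.prime_two.coprime_iff_not_dvd,
    Nat.coprime_comm, Nat.prime_three.coprime_iff_not_dvd]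

theorem inv_of_char {K : Type*} [Group K] [Finite K] {X : Subgroup K} (Y : Subgroup X) [hY : Y.Characteristic]
    (σ : MulAut K) (h : ∀ x ∈ X, σ x ∈ X) : ∀ y ∈ Y.map X.subtype, σ y ∈ Y.map X.subtype := by
  let τ : X →* X := (σ.toMonoidHom.comp X.subtype).codRestrict X fun x => h x x.2
  have hτ : Function.Bijective τ := Finite.injective_iff_bijective.1 fun a b hab =>
    Subtype.ext (σ.injective (congrArg Subtype.val hab))
  rintro _ ⟨y, hy, rfl⟩
  exact ⟨τ y, (characteristic_iff_le_comap.1 hY (MulEquiv.ofBijective τ hτ)) hy, rfl⟩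

variable {K : Type} [Group K] [Finite K] {X : Subgroup K} {d q g : ℕ}

/-- a subgroup of order prime to `6` is nilpotent -/
theorem Fc.nil_of_cop (C : Fc K q) {N : Type} [Group N] [Finite N] (ι : N →* K) (hι : Function.Injective ι)
    (h : (Nat.card N).Coprime 6) : Group.IsNilpotent N := by
  have hl : layer N = ⊥ := eq_bot_iff.2 (Components.layer_le_iff.2 fun L hL => absurd
    ((two_dvd (Components.quasisimple_not_isSolvable hL.2)).trans (card_subgroup_dvd_card L)) (cop_six.1 h).1)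
  have h1 := (C.weyl N ι hι (fittingSubgroup N) inferInstance fittingSubgroup_isNilpotent
    (h.coprime_dvd_left (card_subgroup_dvd_card _))).2
  have h2 := index_eq_one.1 (Nat.eq_one_of_dvd_coprimes (h.pow_right 7) (index_dvd_card _) (h1.trans (by norm_num)))
  exact fittingSubgroup_eq_top_iff.1 (eq_top_iff.2 (h2.ge.trans (cent_fit_le hl)))

/-- a subgroup of odd order in which the elements of order `3` are central -/
theorem Fc.card_odd (C : Fc K q) {N : Type} [Group N] [Finite N] (ι : N →* K) (hι : Function.Injective ι)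
    (h2 : ¬ 2 ∣ Nat.card N) (h3 : ∀ x : N, x ^ 3 = 1 → x ∈ center N) : Nat.card N ≤ 108 * q ^ 2 := by
  have : Fact (Nat.Prime 3) := ⟨Nat.prime_three⟩
  by_cases h : 3 ∣ Nat.card N
  swap
  · exact (C.nil N ι hι (C.nil_of_cop ι hι (cop_six.2 ⟨h2, h⟩)) h2).trans (by omega)
  obtain ⟨P, B, hB, hc⟩ := (S2910.result (by norm_num) h default ((closure_le _).2 fun x hx => h3 x hx.2)).1
  have h4 : (Nat.card B).Coprime 6 :=
    cop_six.2 ⟨fun h5 => h2 (h5.trans (card_subgroup_dvd_card B)), hc.index_eq_card ▸ P.not_dvd_index⟩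
  obtain ⟨-, h5⟩ := C.weyl N ι hι B hB (C.nil_of_cop (ι.comp B.subtype) (hι.comp B.subtype_injective) h4) h4
  have h6 : (centralizer (B : Set N)).index ∣ 9 :=
    Nat.Coprime.dvd_of_dvd_mul_left (m := 2 ^ 7) (Nat.Coprime.pow_right 7 (Nat.prime_two.coprime_iff_not_dvd.2
      fun h7 => h2 (h7.trans (index_dvd_card _))).symm) h5
  have h7 : IsPGroup 3 (N ⧸ B) := by
    obtain ⟨n, hn⟩ := IsPGroup.iff_card.1 P.isPGroup'
    exact IsPGroup.of_card (n := n) (by rw [← index, hc.symm.index_eq_card, hn])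
  have h8 := h7.isNilpotent
  have h9 : Group.IsNilpotent (centralizer (B : Set N)) :=
    Subgroup.isNilpotent_of_ker_le_center ((QuotientGroup.mk' B).comp (centralizer (B : Set N)).subtype) fun x hx =>
      mem_center_iff.2 fun y => Subtype.ext (y.2 x ((QuotientGroup.eq_one_iff _).1 hx)).symm
  have h10 := C.nil _ (ι.comp (centralizer (B : Set N)).subtype) (hι.comp (subtype_injective _)) h9
    fun h11 => h2 (h11.trans (card_subgroup_dvd_card _))
  rw [← (centralizer (B : Set N)).card_mul_index]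
  exact (Nat.mul_le_mul h10 (Nat.le_of_dvd (by norm_num) h6)).trans (by omega)

theorem odd_bound {c i a b k g B : ℕ} (hd : ¬ 2 ∣ g) (hg : g ∣ c * i) (hi : i ∣ 2 ^ k * a) (hb : 2 ^ k * a = b)
    (h0 : 0 < a) (hc : c ≤ B) (hc0 : 0 < c) : g * (c * i) ≤ a * b * B ^ 2 := by
  have h1 : g ∣ 2 ^ k * (c * a) := hg.trans (by
    rw [mul_left_comm]
    exact Nat.mul_dvd_mul_left c hi)
  have h2 := Nat.le_of_dvd (by positivity) (Nat.Coprime.dvd_of_dvd_mul_left (Nat.Coprime.pow_right k
    (Nat.prime_two.coprime_iff_not_dvd.2 hd).symm) h1)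
  have h3 := Nat.le_of_dvd (by positivity) hi
  calc _ ≤ B * a * (B * b) := Nat.mul_le_mul (h2.trans (Nat.mul_le_mul_right _ hc)) (Nat.mul_le_mul hc (hb ▸ h3))
    _ = _ := by ring

theorem relIndex_dvd_aut (E : Subgroup K) :
    (centralizer (E : Set K)).relIndex (normalizer (E : Set K)) ∣ Nat.card (MulAut E) := by
  rw [relIndex, ← normalizerMonoidHom_ker, index_ker]
  exact card_subgroup_dvd_card _

/-- the normaliser of an elementary abelian subgroup of order `9` is small -/
theorem Fc.nine (C : Fc K q) {E : Subgroup K} (hE : IsElementaryAbelian 3 E) (hc : Nat.card E = 3 ^ 2) (hd : ¬ 2 ∣ g)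
    (hg : g ∣ Nat.card (normalizer (E : Set K))) : g * Nat.card (normalizer (E : Set K)) ≤ 1679616 * q ^ 4 := by
  have : Fact (Nat.Prime 3) := ⟨Nat.prime_three⟩
  have hEc : ∀ a ∈ E, ∀ b ∈ E, a * b = b * a := fun a ha b hb =>
    congrArg Subtype.val (hE.1.is_comm.comm (⟨a, ha⟩ : E) ⟨b, hb⟩)
  have h1 : Nat.card (centralizer (E : Set K)) ≤ 108 * q ^ 2 := by
    refine C.card_odd _ (subtype_injective _) (fun h => ?_) fun y hy => ?_
    · obtain ⟨t, h1, h2⟩ := exists_inv h
      exact h2 (Subtype.ext (C.pair E hE hc t (congrArg Subtype.val h1) t.2))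
    · have hy3 : (y : K) ^ 3 = 1 := congrArg Subtype.val hy
      let A : Subgroup K :=
        { carrier := {x | ∃ e ∈ E, ∃ n : ℕ, x = e * y ^ n}
          one_mem' := ⟨1, E.one_mem, 0, by simp⟩
          mul_mem' := by
            rintro _ _ ⟨e, he, n, rfl⟩ ⟨f, hf, k, rfl⟩
            refine ⟨e * f, E.mul_mem he hf, n + k, ?_⟩
            rw [pow_add, mul_assoc, mul_assoc, ← mul_assoc _ f, ← mul_assoc f, ((show Commute f y from y.2 f hf).pow_right n).eq]
          inv_mem' := by
            rintro _ ⟨e, he, n, rfl⟩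
            refine ⟨e⁻¹, E.inv_mem he, 2 * n, ?_⟩
            rw [mul_inv_rev, ((show Commute e⁻¹ y from y.2 _ (E.inv_mem he)).pow_right _).eq, mul_left_inj,
              inv_eq_iff_mul_eq_one, ← pow_add, show n + 2 * n = 3 * n by ring, pow_mul, hy3, one_pow] }
      have hEA : E ≤ A := fun e he => ⟨e, he, 0, by simp⟩
      have hA := C.rk A ⟨⟨by
        rintro ⟨_, e, he, n, rfl⟩ ⟨_, f, hf, k, rfl⟩
        have a1 : Commute e y := y.2 e he
        have a2 : Commute f y := y.2 f hf
        exact Subtype.ext (Commute.mul_left (Commute.mul_right (hEc e he f hf) (a1.pow_right k))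
          (Commute.mul_right (a2.symm.pow_left n) (Commute.pow_pow_self _ n k))).eq⟩⟩ (by
        rintro _ ⟨e, he, n, rfl⟩
        rw [((show Commute e y from y.2 e he).pow_right n).mul_pow, hE.2 e he, ← pow_mul, mul_comm n, pow_mul, hy3,
          one_pow, one_mul])
      have h2 : (y : K) ∈ E := (eq_of_le_of_card_ge hEA (hc ▸ hA)).ge ⟨1, E.one_mem, 1, by simp⟩
      exact mem_center_iff.2 fun g => Subtype.ext (g.2 y h2).symm
  have h2 := (relIndex_dvd_aut E).trans (SmallSimple.BurnsideNC.card_mulAut_dvd_of_card_eq_sq hc)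
  rw [← card_mul_index ((centralizer (E : Set K)).subgroupOf (normalizer (E : Set K))),
    Nat.card_congr (subgroupOfEquivOfLe (centralizer_le_normalizer _)).toEquiv] at hg ⊢
  exact (odd_bound (k := 4) (a := 3) hd hg h2 rfl (by norm_num) h1 Nat.card_pos).trans (le_of_eq (by ring))

/-- the normaliser of a subgroup of order `3` -/
theorem Fc.three_false (C : Fc K q) {E : Subgroup K} (hc : Nat.card E = 3) (hX : normalizer (E : Set K) = X)
    (h3 : ¬ 3 ∣ X.index) (hg : Gen.Good X 2) : False := by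
  have : Fact (Nat.Prime 2) := ⟨Nat.prime_two⟩
  have : Fact (Nat.Prime 3) := ⟨Nat.prime_three⟩
  have hcyc : IsCyclic E := isCyclic_of_prime_card hc
  have ha : Nat.card (MulAut E) = 2 := by rw [IsCyclic.card_mulAut, hc]; rfl
  obtain ⟨z, rfl⟩ := (Subgroup.isCyclic_iff_exists_zpowers_eq_top E).1 hcyc
  rw [Nat.card_zpowers] at hc
  have hz : centralizer ((zpowers z : Subgroup K) : Set K) = centralizer {z} := by
    rw [zpowers_eq_closure, centralizer_closure]
  have hle : centralizer {z} ≤ X := hX ▸ hz ▸ centralizer_le_normalizer _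
  obtain ⟨h8, g, hgz, hgn⟩ := C.three z hc (by
    have h1 := relIndex_dvd_aut (zpowers z)
    rw [hz, hX, ha] at h1
    rw [← relIndex_mul_index hle]
    intro h
    rcases (Nat.Prime.dvd_mul Nat.prime_three).1 h with h | h
    · exact absurd (h.trans h1) (by norm_num)
    · exact h3 h)
  obtain ⟨P, hP⟩ := hg g
  subst hX
  let j : P →* normalizer ((zpowers z : Subgroup K) : Set K) :=
    ((MulAut.conj g⁻¹).toMonoidHom.comp ((normalizer ((zpowers z : Subgroup K) : Set K)).subtype.comp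
      (P : Subgroup (normalizer ((zpowers z : Subgroup K) : Set K))).subtype)).codRestrict _
      fun u => by simpa using hP u.1 u.2
  let f := ((zpowers z).normalizerMonoidHom.comp (P : Subgroup _).subtype).prod ((zpowers z).normalizerMonoidHom.comp j)
  have hf : f.ker = ⊥ := by
    by_contra h
    obtain ⟨t, h1, h2⟩ := exists_inv (G := f.ker) ((P.isPGroup'.to_subgroup f.ker).card_eq_or_dvd.resolve_left
      fun h1 => h (card_eq_one.1 h1))
    have h4 : (t.1.1 : K) ∈ centralizer ((zpowers z : Subgroup K) : Set K) := by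
      have h5 : t.1.1 ∈ (zpowers z).normalizerMonoidHom.ker := congrArg Prod.fst t.2
      rwa [normalizerMonoidHom_ker] at h5
    have h5 : (j t.1 : K) ∈ centralizer ((zpowers z : Subgroup K) : Set K) := by
      have h5 : j t.1 ∈ (zpowers z).normalizerMonoidHom.ker := congrArg Prod.snd t.2
      rwa [normalizerMonoidHom_ker] at h5
    obtain ⟨h6, h7⟩ := H240.BalTwF.pair_sup hc (by rw [← hc]; exact (MulAut.conj g).orderOf_eq z) hgz.symm hgn
    refine h2 (Subtype.ext (Subtype.ext (Subtype.ext (C.pair _ h6 h7 _ (congrArg (·.1.1.1) h1) fun e he =>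
      mem_centralizer_singleton_iff.1 (sup_le (zpowers_le.2 ?_) (zpowers_le.2 ?_) he)))))
    · exact mem_centralizer_singleton_iff.2 (h4 z (mem_zpowers z))
    · have h9 : z * (g⁻¹ * t.1.1 * g⁻¹⁻¹) = g⁻¹ * t.1.1 * g⁻¹⁻¹ * z := h5 z (mem_zpowers z)
      rw [mem_centralizer_singleton_iff]
      calc g * z * g⁻¹ * t.1.1 = g * (z * (g⁻¹ * t.1.1 * g⁻¹⁻¹)) * g⁻¹ := by group
        _ = _ := by rw [h9]; group
  have h4 := card_dvd_of_injective f ((MonoidHom.ker_eq_bot_iff f).1 hf)
  rw [Nat.card_prod, ha] at h4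
  have h5 : 2 ^ 3 ∣ Nat.card P := by
    rw [P.card_eq_multiplicity]
    exact pow_dvd_pow 2 ((Nat.prime_two.pow_dvd_iff_le_factorization Nat.card_pos.ne').1 (h8.trans (card_dvd_of_le hle)))
  exact absurd (h5.trans h4) (by norm_num)

variable [IsSimpleGroup K]

theorem Fc.pCore_three (C : Fc K q) (L : Gen.Loc X d) (h2 : 2 ∣ X.index) (hd : ¬ 2 ∣ g) (hg : g ∣ Nat.card X)
    (hc : 1679616 * q ^ 4 < g * Nat.card X) : pCore 3 X = ⊥ := by
  have : Fact (Nat.Prime 2) := ⟨Nat.prime_two⟩
  have : Fact (Nat.Prime 3) := ⟨Nat.prime_three⟩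
  by_contra h
  have h3 : ¬ 3 ∣ X.index := fun h3 => h ((L.good_of_index h3).eq_bot L.ne_top (pCore_isPGroup 3))
  have hp : IsPGroup 3 ((pCore 3 X).map X.subtype) := (pCore_isPGroup 3).map _
  have hn : Nontrivial ((pCore 3 X).map X.subtype) :=
    (nontrivial_iff_ne_bot _).2 fun h1 => h ((map_eq_bot_iff_of_injective _ X.subtype_injective).1 h1)
  have hnil := hp.isNilpotent
  obtain ⟨r, hr, hrd, V, hV, hV0, hVc, hVr⟩ := H582.exists_char_elemAb ((pCore 3 X).map X.subtype) inferInstance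
  obtain rfl : r = 3 := by
    obtain ⟨n, hn⟩ := IsPGroup.iff_card.1 hp
    exact (Nat.prime_dvd_prime_iff_eq hr Nat.prime_three).1 (hr.dvd_of_dvd_pow (hn ▸ hrd))
  have hch := pCore_characteristic (G := X) 3
  have hinv : ∀ σ : MulAut K, (∀ x ∈ X, σ x ∈ X) → ∀ y ∈ V.map (Subgroup.subtype _), σ y ∈ V.map (Subgroup.subtype _) :=
    fun σ hσ => inv_of_char V σ (inv_of_char _ σ hσ)
  have h0 : V.map (Subgroup.subtype _) ≠ ⊥ := fun h1 => hV0 ((map_eq_bot_iff_of_injective _ (subtype_injective _)).1 h1)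
  have hE : IsElementaryAbelian 3 (V.map (Subgroup.subtype _)) := by
    refine ⟨⟨⟨?_⟩⟩, ?_⟩
    · rintro ⟨_, a, ha, rfl⟩ ⟨_, b, hb, rfl⟩
      exact Subtype.ext (congrArg Subtype.val (hVc a ha b hb) :)
    · rintro _ ⟨a, ha, rfl⟩
      exact congrArg Subtype.val (hVr a ha)
  have hX : normalizer ((V.map (Subgroup.subtype _) : Subgroup K) : Set K) = X :=
    le_antisymm (L.norm _ ((map_subtype_le _).trans (map_subtype_le _)) h0 hinv)
      (le_normalizer_of_conj fun a ha => hinv (MulAut.conj a) fun x hx => X.mul_mem (X.mul_mem ha hx) (X.inv_mem ha))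
  generalize V.map (Subgroup.subtype _) = E at h0 hE hX
  obtain ⟨n, hn⟩ := IsPGroup.iff_card.1 (show IsPGroup 3 E from fun x => ⟨1, Subtype.ext (by simpa using hE.2 x x.2)⟩)
  have h4 := C.rk E hE.1 hE.2
  rw [hn, Nat.pow_le_pow_iff_right (by norm_num)] at h4
  interval_cases n
  · exact h0 (card_eq_one.1 hn)
  · exact C.three_false hn hX h3 (L.good_of_index h2)
  · exact absurd (hX ▸ C.nine hE hn hd (hX ▸ hg)) (not_le.2 hc)

/-- **the local case** -/
theorem Fc.ab_case (C : Fc K q) (L : Gen.Loc X d) (h2 : 2 ∣ X.index) (hd : ¬ 2 ∣ g) (hg : g ∣ Nat.card X)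
    (hc : 1679616 * q ^ 4 < g * Nat.card X) (hF : fittingSubgroup X ≠ ⊥) : HasOwn 2 X := by
  have hcop : (Nat.card (fittingSubgroup X)).Coprime 6 := by
    have key : ∀ p : ℕ, p.Prime → pCore p X = ⊥ → ¬ p ∣ Nat.card (fittingSubgroup X) := fun p hp h0 h => by
      have := Fact.mk hp
      obtain ⟨x, hx⟩ := exists_prime_orderOf_dvd_card' p h
      have h1 := Lib.GenFitting.mem_pCore_of_mem_fitting (p := p) x.2 (k := 1)
        (by rw [pow_one, ← hx, ← orderOf_coe, pow_orderOf_eq_one])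
      rw [h0, mem_bot] at h1
      rw [← orderOf_coe, h1, orderOf_one] at hx
      exact hp.one_lt.ne hx
    have : Fact (Nat.Prime 2) := ⟨Nat.prime_two⟩
    exact cop_six.2 ⟨key 2 Nat.prime_two ((L.good_of_index h2).eq_bot L.ne_top (pCore_isPGroup 2)),
      key 3 Nat.prime_three (C.pCore_three L h2 hd hg hc)⟩
  by_cases hl : layer X = ⊥
  · exfalso
    have h1 := (C.weyl X X.subtype X.subtype_injective _ inferInstance fittingSubgroup_isNilpotent hcop).2
    have h3 := (card_le_of_le (cent_fit_le hl)).trans (C.nil _ (X.subtype.comp (fittingSubgroup X).subtype)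
      (X.subtype_injective.comp (subtype_injective _)) fittingSubgroup_isNilpotent (cop_six.1 hcop).1)
    have h4 := odd_bound (k := 7) (a := 9) hd (by rwa [card_mul_index]) h1 rfl (by norm_num) h3 Nat.card_pos
    rw [card_mul_index] at h4
    exact absurd (h4.trans (by nlinarith [Nat.zero_le (q ^ 4)])) (not_le.2 hc)
  obtain ⟨M, hM⟩ : ∃ M : Subgroup X, IsComponent M := by
    by_contra h
    exact hl (eq_bot_iff.2 (Components.layer_le_iff.2 fun M hM => absurd ⟨M, hM⟩ h))
  have five : ∀ s : ℕ, s.Prime → s ∣ Nat.card (fittingSubgroup X) → 5 ≤ s := fun s hs h =>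
    hs.five_le_of_ne_two_of_ne_three (fun h1 => (cop_six.1 hcop).1 (h1 ▸ h)) fun h1 => (cop_six.1 hcop).2 (h1 ▸ h)
  have hZ : center M = ⊥ := by
    by_contra h
    obtain ⟨s, hs, hsd⟩ := Nat.exists_prime_and_dvd fun h1 => h (card_eq_one.1 h1)
    have := Fact.mk hs
    obtain ⟨z, hz⟩ := exists_prime_orderOf_dvd_card' s hsd
    have h1 : (center M).map M.subtype ≤ fittingSubgroup X := FStarNormal.le_fitting_of_subnormal
      ((inferInstance : (center M).Normal).isSubnormal.trans' hM.1) 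
      (FStarNormal.isNilpotent_map _ _ (open scoped IsMulCommutative in inferInstance))
    have h5 := five s hs (hsd.trans (card_map_of_injective M.subtype_injective ▸ card_dvd_of_le h1))
    obtain ⟨P, hP⟩ := (Gen.isPGroup_zpowers (r := s) (u := (z : M)) (k := 1)
      (by rw [pow_one, ← hz, ← orderOf_coe, pow_orderOf_eq_one])).exists_le_sylow
    obtain ⟨n, hn⟩ := IsPGroup.iff_card.1 P.isPGroup'
    have h6 := P.isPGroup'.isNilpotent
    have h7 := (C.weyl P (X.subtype.comp (M.subtype.comp (P : Subgroup M).subtype))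
      (X.subtype_injective.comp (M.subtype_injective.comp (subtype_injective _))) ⊤ inferInstance inferInstance (by
        rw [card_top, hn]
        exact Nat.Coprime.pow_left n (cop_six.2 ⟨fun h => by
          have := (Nat.prime_dvd_prime_iff_eq Nat.prime_two hs).1 h; omega, fun h => by
          have := (Nat.prime_dvd_prime_iff_eq Nat.prime_three hs).1 h; omega⟩))).1
    have h8 := CpAut.central_eq_one hM.2.1 P
      (fun a ha b hb => congrArg Subtype.val (h7 ⟨a, ha⟩ (mem_top _) ⟨b, hb⟩ (mem_top _))) z.2 (hP (mem_zpowers _))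
    rw [← orderOf_coe, h8, orderOf_one] at hz
    exact hs.one_lt.ne hz
  let e : (M ⧸ center M) ≃* M := (QuotientGroup.quotientMulEquivOfEq hZ).trans QuotientGroup.quotientBot
  have hs := hM.2.2
  obtain ⟨r, hr, hrd⟩ := Nat.exists_prime_and_dvd fun h1 => hF (card_eq_one.1 h1)
  have := Fact.mk hr
  obtain ⟨x, hx⟩ := exists_prime_orderOf_dvd_card' r hrd
  have hx' : orderOf (x.1.1 : K) = r := by rw [orderOf_coe, orderOf_coe, hx]
  obtain ⟨n, hn⟩ := C.swap x.1.1 r hr (five r hr hrd) (hx' ▸ pow_orderOf_eq_one _) fun h => by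
    rw [h, orderOf_one] at hx'
    exact hr.one_lt.ne hx'
  have h3 := hn (M.map X.subtype) (by rw [← map_commutator, Components.component_commutator_self hM]) (by
    rintro _ ⟨a, ha, rfl⟩
    exact mem_centralizer_singleton_iff.2 (congrArg Subtype.val
      (Components.layer_le_centralizer_fitting (Components.component_le_layer hM ha) x x.2).symm))
  obtain ⟨t, h4, h5⟩ := exists_inv (two_dvd (Components.quasisimple_not_isSolvable hM.2))
  refine ⟨M, hM, OddHalf.Known.isLieTypeChar_congr e.symm (C.cent M (X.subtype.comp M.subtype)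
    (X.subtype_injective.comp M.subtype_injective) e.symm.isSimpleGroup (Components.quasisimple_not_isMulCommutative hM.2)
    (n * t.1.1 * n⁻¹) ?_ (fun h => h5 (Subtype.ext (Subtype.ext (conj_eq_one_iff.1 h)))) fun a =>
      (h3 _ ⟨t, t.2, rfl⟩ _ ⟨a, a.2, rfl⟩).symm)⟩
  rw [conj_mul, show t.1.1 * t.1.1 = 1 from congrArg (·.1.1) h4, mul_one, mul_inv_cancel]

end Cfsg.Agent.TH.Ex1
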