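import Cfsg.Agent.TH.Uni
import Cfsg.Agent.SB.R1.Sz
import Cfsg.Agent.H896.SzOddFact
import Cfsg.Agent.H896.SzEven

/-!
# S3541, `boxSz : BoxSz` (helper53)

A subgroup of odd order of `Sz(q)` is abelian; a proper subgroup has too few involutions.
-/

set_option autoImplicit false

namespace Cfsg.Agent.TH.Ex1

open Cfsg Subgroup Cfsg.Agent.SB.R1

/-- the involutions of a subgroup -/
def Iv {K : Type*} [Group K] (X : Subgroup K) : Set K := {t | t ∈ X ∧ orderOf t = 2}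

theorem Iv.mono {K : Type*} [Group K] [Finite K] {X Y : Subgroup K} (h : X ≤ Y) : (Iv X).ncard ≤ (Iv Y).ncard :=
  Set.ncard_le_ncard (fun _ ht => ⟨h ht.1, ht.2⟩) (Set.toFinite _)

theorem sq_of_two {K : Type*} [Group K] {t : K} (h : orderOf t = 2) : t * t = 1 ∧ t ≠ 1 :=
  ⟨by rw [← sq, ← h, pow_orderOf_eq_one], fun h1 => by rw [h1, orderOf_one] at h; omega⟩

/-- the involutions normalising a subgroup of odd prime order -/
theorem iv_le {K : Type*} [Group K] [Finite K] {y : K} (hy : (orderOf y).Prime)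
    (h2 : ∀ t : K, t * t = 1 → t * y = y * t → t = 1) {U : Subgroup K} (hU : U ≤ centralizer {y})
    (hN : Nat.card (normalizer ((zpowers y : Subgroup K) : Set K)) ≤ 4 * Nat.card U) :
    (Iv (normalizer ((zpowers y : Subgroup K) : Set K))).ncard ≤ Nat.card U := by
  have h1 : ∀ t ∈ Iv (normalizer ((zpowers y : Subgroup K) : Set K)), t * y = y⁻¹ * t := by
    intro t ht
    obtain ⟨h3, h4⟩ := sq_of_two ht.2
    have h5 : t * y * t⁻¹ ∈ zpowers y := (mem_normalizer_iff.1 ht.1 y).1 (mem_zpowers y)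
    have h6 : y * (t * y * t⁻¹) = t * y * t⁻¹ * y := by
      obtain ⟨j, hj⟩ := h5
      rw [← hj]
      exact (Commute.self_zpow y j).eq
    have h7 : t⁻¹ = t := inv_eq_of_mul_eq_one_right h3
    by_contra h8
    have h9 : y * (t * y * t⁻¹) ≠ 1 := fun h9 => h8 (by
      rw [← mul_inv_eq_iff_eq_mul]
      exact eq_inv_of_mul_eq_one_right h9)
    have h10 : y ∈ zpowers (y * (t * y * t⁻¹)) := by
      have : Fact (Nat.card (zpowers y)).Prime := ⟨by rwa [Nat.card_zpowers]⟩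
      obtain ⟨j, hj⟩ := mem_zpowers_of_prime_card (G := zpowers y) (p := Nat.card (zpowers y)) rfl
        (g := ⟨_, mul_mem (mem_zpowers y) h5⟩) (fun h => h9 (congrArg Subtype.val h)) (g' := ⟨y, mem_zpowers y⟩)
      exact ⟨j, congrArg Subtype.val hj⟩
    have h11 : Commute t (y * (t * y * t⁻¹)) := by
      show t * (y * (t * y * t⁻¹)) = y * (t * y * t⁻¹) * t
      calc t * (y * (t * y * t⁻¹)) = t * (t * y * t⁻¹ * y) := by rw [h6]
        _ = (t * t) * y * t⁻¹ * y := by group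
        _ = y * (t * y * t⁻¹) * t := by rw [h3, h7]; simp only [mul_assoc, h3, one_mul, mul_one]
    obtain ⟨j, hj⟩ := h10
    exact h4 (h2 t h3 (by rw [← hj]; exact (h11.zpow_right j).eq))
  rcases (Iv (normalizer ((zpowers y : Subgroup K) : Set K))).eq_empty_or_nonempty with h | ⟨t₀, ht₀⟩
  · rw [h, Set.ncard_empty]
    exact Nat.zero_le _
  have h3 : (Iv (normalizer ((zpowers y : Subgroup K) : Set K))).ncard ≤ Nat.card (centralizer ({y} : Set K)) := by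
    refine Set.ncard_le_ncard_of_injOn (t := (centralizer ({y} : Set K) : Set K)) (t₀⁻¹ * ·) (fun t ht => ?_)
      (fun a _ b _ h => mul_left_cancel h) (Set.toFinite _)
    rw [SetLike.mem_coe, mem_centralizer_singleton_iff, mul_assoc, h1 t ht, ← mul_assoc, ← mul_assoc, mul_left_inj,
      inv_mul_eq_iff_eq_mul, ← mul_assoc, h1 t₀ ht₀, mul_inv_cancel_right]
  have h4 : centralizer ({y} : Set K) < normalizer ((zpowers y : Subgroup K) : Set K) := by
    refine lt_of_le_of_ne (fun c hc => ?_) fun h => (sq_of_two ht₀.2).2 (h2 t₀ (sq_of_two ht₀.2).1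
      (mem_centralizer_singleton_iff.1 (h ▸ ht₀.1)))
    refine centralizer_le_normalizer _ (mem_centralizer_iff.2 ?_)
    rintro _ ⟨j, rfl⟩
    exact ((show Commute c y from mem_centralizer_singleton_iff.1 hc).zpow_right j).eq.symm
  obtain ⟨j, hj⟩ := card_dvd_of_le hU
  obtain ⟨i, hi⟩ := card_dvd_of_le h4.le
  have h5 : i ≠ 1 := fun h => h4.ne (eq_of_le_of_card_ge h4.le (by rw [hi, h, mul_one]))
  have h6 : ¬ 2 ∣ Nat.card (centralizer ({y} : Set K)) := fun h => by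
    have : Fact (Nat.Prime 2) := ⟨Nat.prime_two⟩
    obtain ⟨t, ht⟩ := exists_prime_orderOf_dvd_card' 2 h
    obtain ⟨h7, h8⟩ := sq_of_two ((orderOf_coe t).trans ht)
    exact h8 (h2 t h7 (mem_centralizer_singleton_iff.1 t.2))
  have h7 : 0 < Nat.card (normalizer ((zpowers y : Subgroup K) : Set K)) := Nat.card_pos
  have h8 : 0 < Nat.card U := Nat.card_pos
  rw [hi, hj] at hN h7
  rw [hj] at h3 h6
  have h9 : 2 ≤ i := by
    rcases i with _ | _ | i
    · simp at h7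
    · omega
    · omega
  have h10 : j ≤ 2 := by
    by_contra h10
    have : 3 * 2 ≤ j * i := Nat.mul_le_mul (by omega) h9
    rw [mul_assoc] at hN
    nlinarith
  have h11 : j ≠ 2 := fun h => h6 (by rw [h]; exact dvd_mul_left 2 _)
  have h12 : j ≤ 1 := by omega
  nlinarith

variable {F : Type} [Field F] [Fintype F] {m : ℕ}

theorem iv_top (hm : 1 ≤ m) (hF : Fintype.card F = 2 ^ (2 * m + 1)) [Finite ↥(Cfsg.Sz F m)]
    [IsSimpleGroup ↥(Cfsg.Sz F m)] :
    (Iv (⊤ : Subgroup (Cfsg.Sz F m))).ncard ≤ (1 + (2 ^ (2 * m + 1)) ^ 2) * (2 ^ (2 * m + 1)) ^ 2 := by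
  have : Fact (Nat.Prime 2) := ⟨Nat.prime_two⟩
  obtain ⟨a1, -, a3, -⟩ := H452.FprSz.sz_rank hm hF
  rw [← a3, ← Nat.card_coe_set_eq]
  refine card_le_of_cover (fun (P : Sylow 2 (Cfsg.Sz F m)) (t : Iv (⊤ : Subgroup (Cfsg.Sz F m))) => t.1 ∈ P)
    (fun t => ?_) fun P => ?_
  · obtain ⟨P, hP⟩ := (Gen.isPGroup_zpowers (r := 2) (u := t.1) (k := 1)
      (by rw [pow_one, sq]; exact (sq_of_two t.2.2).1)).exists_le_sylow
    exact ⟨P, hP (mem_zpowers _)⟩
  · rw [← a1 P]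
    exact Nat.card_le_card_of_injective (fun t => (⟨t.1.1, t.2⟩ : (P : Subgroup (Cfsg.Sz F m))))
      fun a b h => Subtype.ext (Subtype.ext (Subtype.mk.inj h))

theorem simple_model (hm : 1 ≤ m) (hF : Fintype.card F = 2 ^ (2 * m + 1)) : IsSimpleGroup ↥(Cfsg.Sz F m) := by
  obtain ⟨e⟩ := OddCyclic.ClaimC.SzIso.iso hm hF
  have := S1162.result hm hF
  exact e.isSimpleGroup

theorem even_false (hm : 1 ≤ m) (hF : Fintype.card F = 2 ^ (2 * m + 1)) (hna : ¬ IsMulCommutative ↥(Cfsg.Sz F m))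
    {X : Subgroup (Cfsg.Sz F m)} (hX : X ≠ ⊤) (h : ∀ g, ∃ u ∈ Iv X, g⁻¹ * u * g ∈ Iv X) : False := by
  have : Fact (Nat.Prime 2) := ⟨Nat.prime_two⟩
  have := simple_model hm hF
  obtain ⟨a1, a2, a3, a4⟩ := H452.FprSz.sz_rank hm hF
  have H : TI 2 ↥(Cfsg.Sz F m) ((2 ^ (2 * m + 1)) ^ 2) (2 ^ (2 * m + 1) - 1) (2 * (2 * m + 1)) :=
    ⟨H452.FprSz.sz_ti hm hF, by rw [← pow_mul, mul_comm], a1, a2, a3, a4⟩
  have hf : Fpf 2 ↥(Cfsg.Sz F m) := fun t ht ht2 P u hu h => H452.FprSz.sz_fpf hm hF ht ht2 rfl P hu h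
  have hc : ∀ u ∈ Iv X, Nat.card (centralizer ({u} : Set (Cfsg.Sz F m))) ≤ (2 ^ (2 * m + 1)) ^ 2 := by
    intro u hu
    obtain ⟨P, hP⟩ := (Gen.isPGroup_zpowers (r := 2) (u := u) (k := 1)
      (by rw [pow_one, sq]; exact (sq_of_two hu.2).1)).exists_le_sylow
    have h1 : IsPGroup 2 (centralizer ({u} : Set (Cfsg.Sz F m))) := by
      refine IsPGroup.iff_card.2 ⟨_, Nat.eq_prime_pow_of_unique_prime_dvd Nat.card_pos.ne' fun {l} hl h1 => ?_⟩
      by_contra h2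
      have : Fact l.Prime := ⟨hl⟩
      obtain ⟨x, hx⟩ := exists_prime_orderOf_dvd_card' l h1
      exact (sq_of_two hu.2).2 (H452.FprSz.sz_fpf hm hF hl h2 ((orderOf_coe x).trans hx) P (hP (mem_zpowers u))
        (mem_centralizer_singleton_iff.1 x.2))
    obtain ⟨Q, hQ⟩ := h1.exists_le_sylow
    exact a1 Q ▸ card_le_of_le hQ
  have hp := Gen.pair_count Set.univ (Iv X) (Iv X) hc fun g _ => h g
  rw [Set.ncard_univ, a4, mul_comm _ ((2 ^ (2 * m + 1)) ^ 2)] at hp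
  have hp' := Nat.le_of_mul_le_mul_left hp (by positivity)
  have hq8 : 8 ≤ 2 ^ (2 * m + 1) := (show 8 = 2 ^ 3 from rfl) ▸ Nat.pow_le_pow_right two_pos (by omega)
  have hs : 2 * 2 ^ (m + 1) ≤ 2 ^ (2 * m + 1) := by
    rw [← pow_succ']
    exact Nat.pow_le_pow_right two_pos (by omega)
  rcases S2251.result hm hF X hX with ⟨P, hP⟩ | ⟨U, hU, hk, hXU⟩ | ⟨K, _, _, k, hk1, hkm, hK, hd, S, ⟨e⟩, hXS⟩
  · have h1 : ∀ t ∈ Iv X, t ∈ P := fun t ht => by
      obtain ⟨Q, hQ⟩ := (Gen.isPGroup_zpowers (r := 2) (u := t) (k := 1)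
        (by rw [pow_one, sq]; exact (sq_of_two ht.2).1)).exists_le_sylow
      exact mem_of_smul_eq (hQ (mem_zpowers t)) (Sylow.smul_eq_iff_mem_normalizer.2 (hP ht.1))
    obtain ⟨Q, hQ⟩ := H.exists_ne P
    obtain ⟨g, rfl⟩ := MulAction.exists_smul_eq (Cfsg.Sz F m) P Q
    obtain ⟨u, hu, hu'⟩ := h g
    refine hQ (H.eq_of_mem ?_ (h1 u hu) (sq_of_two hu.2).2)
    exact ⟨g⁻¹ * u * g, h1 _ hu', by simp [mul_assoc]⟩
  · have h1 : ∀ l, l.Prime → l ∣ Nat.card U → l ≠ 2 := by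
      rintro _ - h1 rfl
      have h2 : 2 ∣ 2 ^ (2 * m + 1) := dvd_pow_self 2 (by omega)
      have h3 : 2 ∣ 2 ^ (m + 1) := dvd_pow_self 2 (by omega)
      simp only [Set.mem_insert_iff, Set.mem_singleton_iff] at hk
      omega
    have h2 : 1 < Nat.card U ∧ Nat.card U < 2 * 2 ^ (2 * m + 1) - 2 := by
      simp only [Set.mem_insert_iff, Set.mem_singleton_iff] at hk
      omega
    obtain ⟨l, hl, hlU⟩ := Nat.exists_prime_and_dvd h2.1.ne'
    have : Fact l.Prime := ⟨hl⟩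
    obtain ⟨y, hy⟩ := exists_prime_orderOf_dvd_card' l hlU
    have hy' : orderOf (y : Cfsg.Sz F m) = l := (orderOf_coe y).trans hy
    have hyp : (orderOf (y : Cfsg.Sz F m)).Prime := hy' ▸ hl
    have h3 := (H896.oddFact_ovoid hm hF (ne_one_of_prime' hyp) (hy' ▸ hl.odd_of_ne_two (h1 l hl hlU))).two
    have h4 : U ≤ centralizer {(y : Cfsg.Sz F m)} := fun c hc => mem_centralizer_singleton_iff.2
      (congrArg Subtype.val (hU.isMulCommutative.is_comm.comm (⟨c, hc⟩ : U) y))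
    have h5 : Nat.card (normalizer ((zpowers (y : Cfsg.Sz F m) : Subgroup (Cfsg.Sz F m)) : Set (Cfsg.Sz F m))) ≤
        4 * Nat.card U := by
      rcases hk with hk | hk
      · refine (H.card_norm_le' hf hna hyp (hy' ▸ h1 l hl hlU) fun h5 => ?_).trans (by omega)
        rw [hy'] at h5
        rw [hk] at hlU
        obtain ⟨a, ha⟩ : ∃ a, 2 ^ (2 * m + 1) = a + 1 := ⟨2 ^ (2 * m + 1) - 1, by omega⟩
        rw [ha, show (a + 1) ^ 2 + 1 = a * (a + 2) + 2 by ring] at h5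
        rw [ha, Nat.add_sub_cancel] at hlU
        exact h1 l hl (by rw [hk, ha]; exact hlU) ((Nat.prime_dvd_prime_iff_eq hl Nat.prime_two).1
          ((Nat.dvd_add_right (hlU.mul_right _)).1 h5))
      · exact H452.FprSz.card_norm_torus hm hF hk hl (h1 l hl hlU) hlU hy'
    have h6 := (Iv.mono (hXU.trans (H452.FprSz.normalizer_le_of_cyclic hU y.2))).trans (iv_le hyp h3 h4 h5)
    have h7 := Nat.mul_le_mul h6 h6
    obtain ⟨a, ha⟩ : ∃ a, 2 ^ (2 * m + 1) = a + 1 := ⟨2 ^ (2 * m + 1) - 1, by omega⟩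
    rw [ha] at hp' h2 hq8
    rw [Nat.add_sub_cancel] at hp'
    have h8 : Nat.card U * Nat.card U ≤ (2 * a) * (2 * a) := Nat.mul_le_mul (by omega) (by omega)
    nlinarith
  · have := simple_model hk1 hK
    have h1 : (Iv X).ncard ≤ (1 + (2 ^ (2 * k + 1)) ^ 2) * (2 ^ (2 * k + 1)) ^ 2 := by
      refine le_trans ?_ (iv_top hk1 hK)
      rw [← Nat.card_coe_set_eq, ← Nat.card_coe_set_eq]
      refine Nat.card_le_card_of_injective (fun t => ⟨e ⟨t.1, hXS t.2.1⟩, mem_top _, ?_⟩) fun a b h => ?_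
      · rw [MulEquiv.orderOf_eq, ← orderOf_coe]
        exact t.2.2
      · exact Subtype.ext (Subtype.mk.inj (e.injective (Subtype.mk.inj h)))
    have h2 : (2 ^ (2 * k + 1)) ^ 3 ≤ 2 ^ (2 * m + 1) := by
      rw [← pow_mul]
      refine Nat.pow_le_pow_right two_pos ?_
      obtain ⟨c, hc⟩ := hd
      have h3 : c ≠ 2 := by rintro rfl; omega
      have h4 : 3 ≤ c := by
        rcases c with _ | _ | c <;> omega
      rw [hc]
      exact Nat.mul_le_mul_left _ h4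
    have h3 : 8 ≤ 2 ^ (2 * k + 1) := (show 8 = 2 ^ 3 from rfl) ▸ Nat.pow_le_pow_right two_pos (by omega)
    have h7 := hp'.trans (Nat.mul_le_mul h1 h1)
    generalize 2 ^ (2 * k + 1) = b at h2 h3 h7
    obtain ⟨a, ha⟩ : ∃ a, 2 ^ (2 * m + 1) = a + 1 := ⟨2 ^ (2 * m + 1) - 1, by omega⟩
    rw [ha] at h2 h7
    rw [Nat.add_sub_cancel] at h7
    have h4 : 64 ≤ b ^ 2 := by nlinarith
    have h5 : (1 + b ^ 2) * b ^ 2 ≤ 2 * b ^ 4 := by nlinarith
    have h6 : 2 * b ^ 4 * (2 * b ^ 4) = 4 * b ^ 2 * (b ^ 3) ^ 2 := by ring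
    have h8 : (b ^ 3) ^ 2 ≤ (a + 1) ^ 2 := Nat.pow_le_pow_left h2 2
    have h9 : 4 * b ^ 2 ≤ a := by nlinarith
    have h10 := h7.trans ((Nat.mul_le_mul h5 h5).trans (h6.le.trans (Nat.mul_le_mul h9 h8)))
    nlinarith

/-- the form for an abstract group -/
theorem sz_false {K : Type} [Group K] [Finite K] [IsSimpleGroup K] (hna : ¬ IsMulCommutative K)
    (hK : Lie.IsoSuzuki K) {X : Subgroup K} {d : ℕ} (h : Gen.Loc X d) (hn : 2 ∣ X.index) : False := by
  have : Fact (Nat.Prime 2) := ⟨Nat.prime_two⟩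
  obtain ⟨F, _, _, m, hm, hF, ⟨e'⟩⟩ := hK
  obtain ⟨e''⟩ := OddCyclic.ClaimC.SzIso.iso hm hF
  let e := e'.trans e''.symm
  by_cases h2 : 2 ∣ Nat.card X
  · refine even_false hm hF (fun hc => hna ⟨⟨fun a b => e.injective ?_⟩⟩) (X := X.map e.toMonoidHom)
      (H896.map_ne_top e h.ne_top) fun g => ?_
    · rw [map_mul, map_mul]
      exact hc.is_comm.comm _ _
    · obtain ⟨g, rfl⟩ := e.surjective g
      obtain ⟨P, hP⟩ := h.good_of_index hn g
      obtain ⟨u, hu⟩ := exists_prime_orderOf_dvd_card' 2 (P.dvd_card_of_dvd_card h2)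
      have h3 : orderOf (e ((u : X) : K)) = 2 := by rw [MulEquiv.orderOf_eq, orderOf_coe, orderOf_coe, hu]
      refine ⟨e (u : X), ⟨⟨_, (u : X).2, rfl⟩, h3⟩, ⟨_, hP u u.2, by simp⟩, ?_⟩
      exact (SemiconjBy.orderOf_eq (e g) (show SemiconjBy (e g) _ _ by rw [SemiconjBy]; group)).trans h3
  · refine h.not_comm ⟨⟨fun a b => Subtype.ext (e.injective ?_)⟩⟩
    rw [coe_mul, coe_mul, map_mul, map_mul]
    refine H896.comm_of_oddFact (fun y h1 h3 => H896.oddFact_ovoid hm hF h1 h3) (fun r hr hr2 P => ?_)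
      (K := X.map e.toMonoidHom) ?_ _ ⟨_, a.2, rfl⟩ _ ⟨_, b.2, rfl⟩
    · have : Fact r.Prime := ⟨hr⟩
      exact S0331.result hm hF hr2 P
    · rw [H896.card_map_equiv]
      exact Nat.odd_iff.2 (by omega)

end Cfsg.Agent.TH.Ex1

namespace Cfsg.Agent.TH

/-- **the Suzuki groups** -/
theorem boxSz : BoxSz := by
  rintro _ G _ _ T H m _ c _ ⟨rfl, hT⟩
  have := c.as.simple
  exact Ex1.sz_false c.as.nonab hT (Gen.loc c.as c.half) (Gen.index_eq c.as c.half ▸ c.dvd_index)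

end Cfsg.Agent.TH
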