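import Cfsg.Agent.TH.Ex1.TFb
import Cfsg.Agent.TH.Ex1.Enum
import Cfsg.Agent.TH.Sv.Nec
import Cfsg.Agent.TH.Sv.TriE
import Cfsg.Agent.H446.EPX.TF4Tab
import Cfsg.Agent.H454.Reg.Tools
import Cfsg.Agent.S2128

/-!
# S3541, `box2F4 : Box2F4` (helper53)
-/

set_option autoImplicit false
set_option linter.unusedSectionVars false

namespace Cfsg.Agent.TH.Ex1

open Cfsg Subgroup Cfsg.Agent.OrdDiv Cfsg.Agent.H290.ElReg Cfsg.Agent.H290.ElTab Cfsg.Agent.H252.EN
  Cfsg.Agent.H889.Enum Cfsg.Agent.H446.EPX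

section Tab

set_option maxRecDepth 100000

/-- the test for one value of `q` -/
def ok1 (t B m : ℕ) : Bool :=
  force (2 ^ (2 * m + 1)) fun q => force (ntf q) fun v => !(Nat.beq (v % t) 0) || force (Nat.gcd B v) fun b =>
    Nat.blt (q ^ 15 * (b / Nat.gcd b ((2 * (v / b)) ^ 64) * b)) v

/-- the test for a subgroup whose order is a multiple of `t` and a divisor of `B` -/
def okB (t B : ℕ) : Bool :=
  Nat.blt 0 B && Nat.blt (4 * B ^ 2) (3 * (2 ^ 35) ^ 11) && (List.range 17).all fun m => Nat.beq m 0 || ok1 t B m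

theorem okB_spec {t B m a g : ℕ} (h : okB t B = true) (hm : 1 ≤ m) (h1 : t ∣ a) (h2 : a ∣ B)
    (h3 : a ∣ ntf (2 ^ (2 * m + 1))) (h4 : g ∣ a) (h5 : g.Coprime (2 * (ntf (2 ^ (2 * m + 1)) / a)))
    (h6 : ntf (2 ^ (2 * m + 1)) ≤ (2 ^ (2 * m + 1)) ^ 15 * (g * a)) : False := by
  simp only [okB, Bool.and_eq_true, Nat.blt_eq, List.all_eq_true, List.mem_range, Bool.or_eq_true, Nat.beq_eq] at h
  obtain ⟨⟨h0, h7⟩, h8⟩ := h
  have ha := Nat.le_of_dvd h0 h2
  have ha0 := Nat.pos_of_dvd_of_pos h2 h0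
  by_cases h9 : m < 17
  · have h10 := (h8 m h9).resolve_left (by omega)
    simp only [ok1, force_eq, Bool.or_eq_true, Nat.blt_eq, Nat.mod_eq_zero_of_dvd (h1.trans h3)] at h10
    replace h10 := h10.resolve_left (by decide)
    have h11 := Nat.dvd_gcd h2 h3
    have h12 := Nat.gcd_dvd_right B (ntf (2 ^ (2 * m + 1)))
    have h13 := Nat.gcd_pos_of_pos_left (ntf (2 ^ (2 * m + 1))) h0
    generalize Nat.gcd B (ntf (2 ^ (2 * m + 1))) = b at h10 h11 h12 h13
    have h14 := ((h5.coprime_dvd_right (Nat.mul_dvd_mul_left 2 (Nat.div_dvd_div_left h12 h11))).pow_right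
      64).coprime_dvd_right (Nat.gcd_dvd_right b _)
    have h15 := Nat.gcd_dvd_left b ((2 * (ntf (2 ^ (2 * m + 1)) / b)) ^ 64)
    generalize Nat.gcd b ((2 * (ntf (2 ^ (2 * m + 1)) / b)) ^ 64) = e at h10 h14 h15
    have h16 : g ∣ b / e := h14.dvd_of_dvd_mul_right (by rw [Nat.div_mul_cancel h15]; exact h4.trans h11)
    exact absurd (h6.trans (Nat.mul_le_mul_left _ (Nat.mul_le_mul (Nat.le_of_dvd
      (Nat.div_pos (Nat.le_of_dvd h13 h15) (Nat.pos_of_dvd_of_pos h15 h13)) h16) (Nat.le_of_dvd h13 h11))))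
      (not_le.2 h10)
  · have h10 : 2 ^ 35 ≤ 2 ^ (2 * m + 1) := Nat.pow_le_pow_right two_pos (by omega)
    have h11 := SB.TwF.le_ord (q := 2 ^ (2 * m + 1)) (le_trans (by norm_num) h10)
    have h12 : g * a ≤ B ^ 2 := by
      rw [sq]
      exact Nat.mul_le_mul ((Nat.le_of_dvd ha0 h4).trans ha) ha
    have h13 := Nat.pow_le_pow_left h10 11
    have h14 : 0 < (2 ^ (2 * m + 1)) ^ 15 := by positivity
    rw [ntf] at h6
    generalize 2 ^ (2 * m + 1) = q at h6 h11 h13 h14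
    generalize (2 ^ 35) ^ 11 = c at h7 h13
    have h15 : q ^ 15 * (4 * (g * a)) < q ^ 15 * (3 * q ^ 11) := Nat.mul_lt_mul_of_pos_left (by omega) h14
    rw [mul_left_comm, mul_left_comm _ 3, ← pow_add, show 15 + 11 = 26 from rfl] at h15
    omega

theorem tab_reg : ((reg 52).all fun x => Nat.beq x.2.1 2 || force (od x.1 x.2.1 x.2.2) fun t =>
    force (ouN x.1 x.2.1 x.2.2 * t) fun B => okB t B) = true := by decide +kernel

theorem tab_spor : (spor.all fun x => okB x.2 (2 * x.2)) = true := by decide +kernel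

theorem tab_alt : ((List.range 17).all fun n => Nat.blt n 5 || okB (n.factorial / 2) (autA n)) = true := by
  decide +kernel

theorem ntf_big {q : ℕ} (hq : 8 ≤ q) : q ^ 15 * (1679616 * q ^ 4) < ntf q := by
  have h1 : 7 * q ≤ 8 * (q - 1) := by omega
  have h2 : 4095 * q ^ 4 ≤ 4096 * (q ^ 4 - 1) := by
    have : 8 ^ 4 ≤ q ^ 4 := Nat.pow_le_pow_left hq 4
    omega
  have h3 : q ^ 12 * (7 * q) * q ^ 3 * (4095 * q ^ 4) * q ^ 6 ≤
      q ^ 12 * (8 * (q - 1)) * (q ^ 3 + 1) * (4096 * (q ^ 4 - 1)) * (q ^ 6 + 1) := by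
    gcongr <;> omega
  rw [show q ^ 12 * (7 * q) * q ^ 3 * (4095 * q ^ 4) * q ^ 6 = 28665 * (q ^ 7 * q ^ 19) by ring,
    show q ^ 12 * (8 * (q - 1)) * (q ^ 3 + 1) * (4096 * (q ^ 4 - 1)) * (q ^ 6 + 1) = 32768 * ntf q by
      rw [ntf]; ring] at h3
  have h4 := Nat.mul_le_mul_right (q ^ 19) (Nat.pow_le_pow_left hq 7)
  have h5 : 0 < q ^ 19 := by positivity
  rw [show q ^ 15 * (1679616 * q ^ 4) = 1679616 * q ^ 19 by ring]
  omega

end Tab

variable {G : Type} [Group G] [Finite G] {T H : Subgroup G} {m q : ℕ}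

theorem card_sub : Nat.card (H.subgroupOf T) = Nat.card ↥(H ⊓ T) := by
  rw [← inf_subgroupOf_right, Nat.card_congr (subgroupOfEquivOfLe inf_le_right).toEquiv]

theorem count_even (c : LieCtx T H m 2) (C : Fc T q) (h2 : 2 ∣ Nat.card ↥(H ⊓ T)) :
    Nat.card T ≤ q ^ 15 * (Nat.gcd (Nat.card ↥(H ⊓ T)) (Nat.card H / m) * Nat.card ↥(H ⊓ T)) := by
  have : Fact (Nat.Prime 2) := ⟨Nat.prime_two⟩
  have hT := c.as.normal
  obtain ⟨u, hu⟩ := exists_prime_orderOf_dvd_card' 2 h2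
  have hn : ∀ a ∈ H, ∀ y ∈ H ⊓ T, a * y * a⁻¹ ∈ H ⊓ T := fun a ha y hy =>
    ⟨H.mul_mem (H.mul_mem ha hy.1) (H.inv_mem ha), hT.conj_mem y hy.2 a⟩
  have h1 := Sv.boxEl G T H (H ⊓ T) (H ⊓ T) m 2 1 u c.as c.half Nat.prime_two c.not_dvd_d inf_le_left hn le_rfl
    (fun a ha => hn a ha.1) u.2 (by rw [orderOf_coe, hu, pow_one])
  have h3 : (clsIn T H u).ncard ≤ Nat.card ↥(H ⊓ T) := Set.ncard_le_ncard (s := clsIn T H u)
    (t := (H ⊓ T : Subgroup G)) (by
      rintro _ ⟨h4, t, ht, rfl⟩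
      exact ⟨h4, hT.conj_mem' _ u.2.2 t⟩) (Set.toFinite _)
  have h4 := C.inv ⟨u, u.2.2⟩ (by rw [← orderOf_coe, orderOf_coe u, hu])
  rw [show centralizer {(⟨u, u.2.2⟩ : T)} = (centralizer {(u : G)}).subgroupOf T from Subgroup.ext fun x => by
    rw [mem_subgroupOf, mem_centralizer_singleton_iff, mem_centralizer_singleton_iff, Subtype.ext_iff]; rfl] at h4
  rw [← ((centralizer {(u : G)}).subgroupOf T).card_mul_index]
  exact Nat.mul_le_mul h4 (h1.trans (Nat.mul_le_mul (min_le_left _ _) h3))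

theorem count_odd (c : LieCtx T H m 2) (C : Fc T q) (h2 : ¬ 2 ∣ Nat.card H) :
    2 * Nat.card T ≤ Nat.card H ^ 2 * q ^ 9 := by
  have hT := c.as.normal
  obtain ⟨s, hs, hsm⟩ := Nat.exists_prime_and_dvd c.half.one_lt.ne'
  have hs2 : s ≠ 2 := fun h => h2 (h ▸ hsm.trans c.half.m_dvd)
  have hinj : Function.Injective (MulAut.conjNormal : G →* MulAut T) := by
    rw [injective_iff_map_eq_one]
    intro a ha
    rw [← mem_bot, ← c.as.cent]
    exact fun x hx => (mul_inv_eq_iff_eq_mul.1 (congrArg Subtype.val (MulEquiv.congr_fun ha ⟨x, hx⟩))).symm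
  have h1 := c.as.u1 c.half hs hsm (c := q ^ 9) fun x _ hx => by
    have h3 := orderOf_injective _ hinj x
    refine le_trans ?_ (C.odd (MulAut.conjNormal x) (by rwa [h3, hx]) (by rwa [h3, hx]))
    exact Nat.card_le_card_of_injective (fun y => ⟨⟨y, y.2.2⟩, SB.R1.mem_fixS.2 (Subtype.ext
      (mul_inv_eq_iff_eq_mul.2 (mem_centralizer_singleton_iff.1 y.2.1).symm))⟩)
      fun a b h => Subtype.ext (congrArg (·.1.1) h)
  have h3 := hs.two_le
  refine (Nat.mul_le_mul_right _ (by omega)).trans (h1.trans (Nat.mul_le_mul_right _ (Nat.pow_le_pow_left ?_ 2)))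
  exact Set.ncard_le_ncard Set.inter_subset_right (Set.toFinite _)

theorem exists_big (c : LieCtx T H m 2) (C : Fc T q) (hT : Nat.card T = ntf q) (ho : ¬ 2 ∣ T.index)
    (ho' : 2 * T.index ≤ q) :
    ∃ g, ¬ 2 ∣ g ∧ g ∣ Nat.card (H.subgroupOf T) ∧ 1679616 * q ^ 4 < g * Nat.card (H.subgroupOf T) := by
  have hq := C.q8
  by_cases h2 : 2 ∣ Nat.card (H.subgroupOf T)
  · rw [card_sub] at h2 ⊢
    exact ⟨_, fun h => c.not_dvd_d (h.trans (Nat.gcd_dvd_right _ _)), Nat.gcd_dvd_left _ _,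
      lt_of_mul_lt_mul_left ((ntf_big hq).trans_le (hT ▸ count_even c C h2)) (Nat.zero_le _)⟩
  refine ⟨_, h2, dvd_rfl, ?_⟩
  have h1 := Gen.card_eq_mul c.as c.half
  have h3 := count_odd c C (by
    rw [h1]
    exact fun h => (Nat.prime_two.dvd_mul.1 h).elim h2 ho)
  rw [h1, hT, ntf] at h3
  have h4 := SB.TwF.le_ord hq
  by_contra h5
  have h6 : (2 * T.index) ^ 2 * (Nat.card (H.subgroupOf T) * Nat.card (H.subgroupOf T)) * q ^ 9 ≤
      q ^ 2 * (1679616 * q ^ 4) * q ^ 9 :=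
    Nat.mul_le_mul_right _ (Nat.mul_le_mul (Nat.pow_le_pow_left ho' 2) (not_lt.1 h5))
  rw [show (2 * T.index) ^ 2 * (Nat.card (H.subgroupOf T) * Nat.card (H.subgroupOf T)) * q ^ 9 =
    4 * ((Nat.card (H.subgroupOf T) * T.index) ^ 2 * q ^ 9) by ring,
    show q ^ 2 * (1679616 * q ^ 4) * q ^ 9 = 1679616 * q ^ 15 by ring] at h6
  have h7 := Nat.mul_le_mul_right (q ^ 15) (Nat.pow_le_pow_left hq 11)
  rw [← pow_add, show 11 + 15 = 26 from rfl] at h7
  have h8 : 0 < q ^ 15 := by positivity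
  omega

theorem not_solv {N : Type*} [Group N] (hs : IsSimpleGroup N) (hc : ¬ IsMulCommutative N) : ¬ Group.IsSolvable N :=
  fun _ => hc ⟨⟨IsSimpleGroup.comm_iff_isSolvable.2 inferInstance⟩⟩

theorem mul_case (C : Fc T q) {𝓢 : Set (Subgroup G)} (h : Mul T H 𝓢) : HasOwn 2 H := by
  obtain ⟨S, hS, S', hS', hne⟩ := h.two
  have hT : ∀ S ∈ 𝓢, S ≤ T := fun S hS => (h.le S hS).trans inf_le_right
  obtain ⟨t, h1, h2⟩ := exists_inv (two_dvd (not_solv (h.simple S' hS') (h.nonab S' hS')))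
  have h3 := C.cent S (inclusion (hT S hS)) (inclusion_injective _) (h.simple S hS) (h.nonab S hS) ⟨t, hT S' hS' t.2⟩
    (Subtype.ext (congrArg Subtype.val h1 :)) (fun h3 => h2 (Subtype.ext (congrArg Subtype.val h3 :)))
    fun a => Subtype.ext (h.comm S hS S' hS' hne a a.2 t t.2)
  let M : Subgroup G := H ⊓ ⨅ U ∈ 𝓢, normalizer (U : Set G)
  have h4 : S ≤ M := le_inf ((h.le S hS).trans inf_le_left) (le_iInf₂ fun U hU => by
    by_cases h4 : S = U
    · exact h4 ▸ le_normalizer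
    · exact fun x hx => centralizer_le_normalizer _ fun y hy => (h.comm S hS U hU h4 x hx y hy).symm)
  refine hasOwn_hom (inclusion (inf_le_left : M ≤ H)) (inclusion_injective _) ?_ (Cl.Cases.hasOwn_of h4
    (fun a ha x hx => (mem_normalizer_iff.1 (mem_iInf.1 (mem_iInf.1 ha.2 S) hS) x).1 hx) (h.simple S hS)
    (h.nonab S hS) h3)
  rw [inclusion_range]
  refine ⟨fun x hx a => ⟨H.mul_mem (H.mul_mem a.2 hx.1) (H.inv_mem a.2), mem_iInf.2 fun U => mem_iInf.2 fun hU => ?_⟩⟩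
  refine mem_normalizer_of_cj_eq ?_
  have h5 := cj_eq_of_mem_normalizer (g := (x : G)) (mem_iInf.1 (mem_iInf.1 hx.2 _) (h.perm _ (H.inv_mem a.2) U hU))
  change cj ((a : G) * x * (a : G)⁻¹) U = U
  rw [cj_mul, cj_mul, h5, cj_cj_inv]

end Cfsg.Agent.TH.Ex1

namespace Cfsg.Agent.TH

open Cfsg Subgroup Ex1 Cfsg.Agent.H889.Enum Cfsg.Agent.H446.EPX Cfsg.Agent.H252.EN

/-- **the large Ree groups** -/
theorem box2F4 : Box2F4 := by
  rintro hK G _ _ T H m p c ho ⟨rfl, F, _, _, l, hl, hF, ⟨e⟩⟩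
  have : Fact (Nat.Prime 2) := ⟨Nat.prime_two⟩
  have C := (fc_model hl hF).of_equiv e
  have hT := c.as.normal
  have hs := c.as.simple
  have hc : Nat.card T = ntf (2 ^ (2 * l + 1)) := (Nat.card_congr e.toEquiv).trans (S1068.result hF)
  rcases boxTri G T H m c.as c.half with ⟨E, r, h⟩ | ⟨N, h⟩ | ⟨𝓢, h⟩
  · have h1 := H454.Reg.index_dvd_out T c.as.cent
    rw [H934.OutB.card_out_congr e, S2128.result hl hF] at h1
    obtain ⟨g, h2, h3, h4⟩ := exists_big c C hc (fun h2 => by have := h2.trans h1; omega)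
      ((Nat.mul_le_mul_left 2 (Nat.le_of_dvd (by omega) h1)).trans (SB.TwF.two_mul_le hl))
    have hEH : E ≤ H := h.norm ▸ le_normalizer
    let f : H.subgroupOf T →* H := (T.subtype.comp (H.subgroupOf T).subtype).codRestrict H fun x => x.2
    have hf : Function.Injective f := fun a b h5 => Subtype.ext (Subtype.ext (congrArg Subtype.val h5 :))
    refine ho (hasOwn_hom f hf ⟨?_⟩ (C.ab_case (Gen.loc c.as c.half) (Gen.index_eq c.as c.half ▸ c.dvd_index)
      h2 h3 h4 fun h5 => h.ne_bot (eq_bot_iff.2 fun x hx => ?_)))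
    · rintro _ ⟨x, rfl⟩ a
      exact ⟨⟨⟨a * x.1.1 * a⁻¹, hT.conj_mem _ x.1.2 _⟩, H.mul_mem (H.mul_mem a.2 x.2) (H.inv_mem a.2)⟩, rfl⟩
    · have := Fact.mk h.prime
      have h6 : E.comap (H.subtype.comp f) ≤ pCore r (H.subgroupOf T) := Lib.Cores.le_pCore
        ⟨fun y hy a => (mem_normalizer_iff.1 (h.norm.ge (show (a.1 : G) ∈ H from a.2)) _).1 hy⟩
        fun y => ⟨1, Subtype.ext (Subtype.ext (Subtype.ext (by
          rw [pow_one]
          exact h.pow _ y.2)))⟩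
      have h7 := (h6.trans (Lib.Cores.pCore_le_fittingSubgroup r)).trans h5.le (x := ⟨⟨x, h.le_S hx⟩, hEH hx⟩) hx
      exact congrArg (·.1.1) (mem_bot.1 h7)
  · have hN := h.simple
    have hch := ChevalleyStructure.TwF4.Twisted.charP_two hF
    have hNT : N ≤ T := h.le.trans inf_le_right
    have h1 := card_dvd_of_le h.le
    have h2 := card_dvd_aut h
    have h3 : Nat.card ↥(H ⊓ T) ∣ ntf (2 ^ (2 * l + 1)) := hc ▸ card_dvd_of_le inf_le_right
    have key : ∀ {t B : ℕ}, okB t B = true → Nat.card N = t → Nat.card (MulAut N) ∣ B → False := fun h4 h5 h6 => by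
      refine okB_spec h4 hl (h5 ▸ h1) (h2.trans h6) h3 (Nat.gcd_dvd_left _ _) ?_
        (hc ▸ count_even c C ((two_dvd (not_solv hN h.nonab)).trans h1))
      refine Nat.Coprime.coprime_dvd_left (Nat.gcd_dvd_right _ _) (Nat.Coprime.mul_right
        (Nat.prime_two.coprime_iff_not_dvd.2 c.not_dvd_d).symm ?_)
      rw [← hc, ← (H.subgroupOf T).card_mul_index, ← card_sub, Nat.mul_div_cancel_left _ Nat.card_pos,
        Gen.index_eq c.as c.half]
      exact c.half.coprime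
    rcases enum hK (n := 52) (by norm_num) h.nonab (fth_of (fth_tf4 (F := F) (2 ^ l))
      (f := e.toMonoidHom.comp (inclusion hNT)) (e.injective.comp (inclusion_injective hNT)))
      (fun h4 => ho (Cl.Cases.hasOwn_of (h.le.trans inf_le_left) h.nrm hN h.nonab h4)) with
      ⟨n, h5, -, h6, h7⟩ | ⟨x, hx, -, h6, h7⟩ | ⟨x, hx, h5, -, h6, h7⟩
    · have h8 : n < 17 := by
        by_contra h8
        have h9 : 17 ∣ 2 * Nat.card N := h6 ▸ Nat.dvd_factorial (by norm_num) (by omega)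
        exact not_dvd (((Nat.Coprime.dvd_mul_left (by decide : Nat.Coprime 17 2)).1 h9).trans (h1.trans h3))
      have h9 := List.all_eq_true.1 tab_alt n (List.mem_range.2 h8)
      rw [Bool.or_eq_true, Nat.blt_eq] at h9
      exact key (h9.resolve_left (by omega)) (by omega) h7.dvd
    · exact key (List.all_eq_true.1 tab_spor x hx) h6 h7
    · have h9 := List.all_eq_true.1 tab_reg x hx
      rw [Bool.or_eq_true, Nat.beq_eq, force_eq, force_eq] at h9
      exact key (h9.resolve_left h5) h6 h7.dvd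
  · exact ho (mul_case C h)

end Cfsg.Agent.TH
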